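import Cfsg.Agent.H915.Gs.Base
import Cfsg.Agent.KFacts.RgdSL

/-!
# The chain of root groups (S4327, exceptional groups), helper441

`R : RGD cs h p T n X`, `a : MulAut Y` maps `X (-r)` onto `X r`.

* `root_step` : one more conjugate of `a` adds the opposite of a root group (up to conjugation);
* `LongR R r` : facts on the root groups of the orbit of `r` (`longR_of_sl` : simply laced);
* `chain_step` : `X (±b) ≤ J`, `⟨b, c⟩ = 1`: one more conjugate of `a` adds `X (±c)`;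
* `chain_fam`, `chain_top` : a connected family of roots, the Dynkin diagram;
* `reach_sup` : two groups.
-/

set_option autoImplicit false
set_option linter.unusedSectionVars false

namespace Cfsg.Agent.H441.GS

open CoxeterSystem Cfsg.Agent.ChevalleyStructure.CoxeterGeom Cfsg.Agent.Tits.Roots Cfsg.Agent.Tits.Core
  Cfsg.Agent.Tits.Exchange Cfsg.Agent.Nodes.Reps Cfsg.Agent.Nodes.BNOf Cfsg.Agent.Nodes.StabComb
  Cfsg.Agent.Nodes.Bruhat Cfsg.Agent.Nodes.OppDec Cfsg.Agent.Nodes.PosPair Cfsg.Agent.Nodes.Coroot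
  Cfsg.Agent.KFacts.RgdSL
open Cfsg.Agent.H915.Gs (Gn Reach Reach₁ im)
open scoped commutatorElement

variable {I W Y : Type*} [Fintype I] [DecidableEq I] [Group W] [Group Y] {M : CoxeterMatrix I}
  {cs : CoxeterSystem M W} {A : I → I → ℤ} {h : IsCartan M A} {p : ℕ} {T : Subgroup Y} {n : I → Y}
  {X : (I → ℤ) → Subgroup Y}

section Reach

variable {Γ : Type*} [Group Γ] {a : MulAut Γ}

/-- two groups reached -/
theorem reach_sup {k k' : ℕ} {J J' : Subgroup Γ} (hJ : Reach a k J) (hJ' : Reach a k' J') :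
    Reach a (k + k') (J ⊔ J') := by
  obtain ⟨f, hf⟩ := hJ
  obtain ⟨f', hf'⟩ := hJ'
  refine ⟨Fin.append f f', ?_⟩
  rw [Subgroup.map_sup]
  refine sup_le (hf.trans ?_) (hf'.trans ?_)
  · refine Subgroup.closure_mono ?_
    rintro _ ⟨i, rfl⟩
    exact ⟨Fin.castAdd k' i, by simp⟩
  · refine Subgroup.closure_mono ?_
    rintro _ ⟨i, rfl⟩
    exact ⟨Fin.natAdd k i, by simp⟩

end Reach

theorem cj_eq_of_comm {u : Y} {H : Subgroup Y} (hu : ∀ z ∈ H, u * z = z * u) : cj u H = H := by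
  ext x
  rw [mem_cj]
  constructor
  · intro hx
    have h1 := hu _ hx
    have h2 : x = u⁻¹ * x * u := by
      have h3 : u * (u⁻¹ * x * u) = (u⁻¹ * x * u) * u := h1
      have h4 : x * u = u⁻¹ * x * u * u := by rw [← h3]; group
      exact mul_right_cancel h4
    rwa [h2]
  · intro hx
    have h1 := hu _ hx
    have h2 : u⁻¹ * x * u = x := by rw [mul_assoc, ← h1]; group
    rwa [h2]

section Step

variable (R : RGD cs h p T n X) [Finite W]

include R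

/-- **The root step.** -/
theorem root_step {a : MulAut Y} {r : I → ℤ} (hr : IsRoot cs h r) (ha : ∀ x, a x ∈ X r ↔ x ∈ X (-r)) {d : I → ℤ}
    (hd : ∃ w, rep cs h w r = d) {k : ℕ} {J : Subgroup Y} (hJ : Reach a k J) {g : Y} (hg : cj g (X (-d)) ≤ J) :
    Reach a (k + 1) (J ⊔ cj g (X d)) := by
  obtain ⟨w, rfl⟩ := hd
  obtain ⟨m, hm⟩ := exists_rp cs R.nsys w
  have h1 : cj m (X r) = X (rep cs h w r) := R.conj_rp hm hr
  have h2 : cj m (X (-r)) = X (-rep cs h w r) := by rw [R.conj_rp hm hr.neg, map_neg]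
  have h3 : cj (g * m) (X (-r)) ≤ J := by rwa [cj_mul, h2]
  have h4 : im a (X (-r)) = X r := by
    ext x
    rw [im, Subgroup.mem_map]
    constructor
    · rintro ⟨y, hy, rfl⟩
      exact (ha y).2 hy
    · intro hx
      exact ⟨a⁻¹ x, (ha _).1 (by rwa [MulAut.apply_inv_self]), MulAut.apply_inv_self _ a x⟩
  have h5 := Cfsg.Agent.H915.Gs.Reach.grow (g := g * m) hJ h3
  rw [h4] at h5
  have h6 : cj (g * m) (X r) = cj g (X (rep cs h w r)) := by rw [cj_mul, h1]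
  rw [← h6]
  exact h5

omit R in
/-- the orbit of a root -/
def Orb (cs : CoxeterSystem M W) (h : IsCartan M A) (r x : I → ℤ) : Prop := ∃ w, rep cs h w r = x

omit R in
/-- the facts on the root groups of the orbit of `r` (long roots) -/
structure LongR (R : RGD cs h p T n X) (r : I → ℤ) : Prop where
  root : IsRoot cs h r
  sym : ∀ x y, Orb cs h r x → Orb cs h r y → cpr cs h x y = cpr cs h y x
  comm : ∀ x y, Orb cs h r x → Orb cs h r y → cpr cs h x y = 1 → ∀ u ∈ X x, ∀ v ∈ X y, u * v = v * u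
  mem : ∀ x y, Orb cs h r x → Orb cs h r y → cpr cs h x y = -1 → ∀ u ∈ X x, ∀ v ∈ X y, ⁅u, v⁆ ∈ X (x + y)
  sur : ∀ x y, Orb cs h r x → Orb cs h r y → cpr cs h x y = -1 → ∀ u ∈ X x, u ≠ 1 → ∀ q ∈ X (x + y),
    ∃ v ∈ X y, ⁅u, v⁆ = q
  ne : ∀ x y, Orb cs h r x → Orb cs h r y → cpr cs h x y = -1 → ∀ u ∈ X x, u ≠ 1 → ∀ v ∈ X y, v ≠ 1 → ⁅u, v⁆ ≠ 1

omit R [Finite W] in
theorem Orb.isRoot {r x : I → ℤ} (hr : IsRoot cs h r) (hx : Orb cs h r x) : IsRoot cs h x := by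
  obtain ⟨w, rfl⟩ := hx
  exact hr.act w

omit R in
theorem Orb.refl {r x y : I → ℤ} (hr : IsRoot cs h r) (hx : Orb cs h r x) (hy : Orb cs h r y) :
    Orb cs h r (x - cpr cs h x y • y) := by
  have hy' := hy.isRoot hr
  obtain ⟨w, i, rfl⟩ := hy'
  obtain ⟨v, rfl⟩ := hx
  exact ⟨Cfsg.Agent.Nodes.SubComb.rfl' cs w i * v, by rw [rep_mul_apply, rep_rfl'_eq]⟩

omit R in
theorem Orb.neg {r x : I → ℤ} (hr : IsRoot cs h r) (hx : Orb cs h r x) : Orb cs h r (-x) := by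
  have h1 := hx.refl hr hx
  rw [cpr_self cs h (hx.isRoot hr)] at h1
  have e : x - (2 : ℤ) • x = -x := by module
  rwa [e] at h1

/-- simply laced -/
theorem longR_of_sl (hs : SL cs h) {r : I → ℤ} (hr : IsRoot cs h r) : LongR R r where
  root := hr
  sym x y hx hy := hs x y (hx.isRoot hr) (hy.isRoot hr)
  comm x y hx hy h1 u hu v hv := by
    have hx := hx.isRoot hr
    have hy := hy.isRoot hr
    have hxy : x ≠ y := by
      rintro rfl
      rw [cpr_self cs h hx] at h1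
      omega
    refine comm_of_not_btwn R hx hy hxy ?_ (hs.not_btwn hx hy hxy (by omega)) hu hv
    rintro rfl
    rw [cpr_neg_left _ hy, cpr_self cs h hy] at h1
    omega
  mem x y hx hy h1 u hu v hv := (hs.a2 (hx.isRoot hr) (hy.isRoot hr) h1).comm_mem R hu hv
  sur x y hx hy h1 u hu hu1 q hq := (hs.a2 (hx.isRoot hr) (hy.isRoot hr) h1).comm_surj R hu hu1 hq
  ne x y hx hy h1 u hu hu1 v hv hv1 := (hs.a2 (hx.isRoot hr) (hy.isRoot hr) h1).comm_ne_one R hu hu1 hv hv1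

theorem exists_ne {x : I → ℤ} (hx : IsRoot cs h x) : ∃ u ∈ X x, u ≠ 1 := by
  have := X_ne_bot R hx
  rw [Subgroup.ne_bot_iff_exists_ne_one] at this
  obtain ⟨⟨a, ha⟩, h1⟩ := this
  exact ⟨a, ha, fun h2 => h1 (Subtype.ext h2)⟩

/-- **The chain step**: one more conjugate adds a node. -/
theorem chain_step {r : I → ℤ} (L : LongR R r) {a : MulAut Y} (ha : ∀ x, a x ∈ X r ↔ x ∈ X (-r)) {b c : I → ℤ}
    (ob : Orb cs h r b) (oc : Orb cs h r c) (hbc : cpr cs h b c = 1) {k : ℕ} {J : Subgroup Y}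
    (hJ : Reach a k J) (h1 : X b ≤ J) (h2 : X (-b) ≤ J) :
    ∃ J', Reach a (k + 1) J' ∧ J ≤ J' ∧ X c ≤ J' ∧ X (-c) ≤ J' := by
  have hr := L.root
  have hb := ob.isRoot hr
  have hc := oc.isRoot hr
  have hcb : cpr cs h c b = 1 := by rw [L.sym c b oc ob, hbc]
  obtain ⟨d, hd⟩ : ∃ d, d = b - c := ⟨_, rfl⟩
  have od : Orb cs h r d := by
    have := ob.refl hr oc
    rw [hbc, one_smul] at this
    rwa [hd]
  have hdr : IsRoot cs h d := od.isRoot hr
  have ob' := ob.neg hr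
  have oc' := oc.neg hr
  have od' := od.neg hr
  have hdb : cpr cs h d b = 1 := by
    rw [hd, sub_eq_add_neg, cpr_add cs h _ _ hb, cpr_self cs h hb, cpr_neg_left _ hb, hcb]; norm_num
  have hdc : cpr cs h d c = -1 := by
    rw [hd, sub_eq_add_neg, cpr_add cs h _ _ hc, hbc, cpr_neg_left _ hc, cpr_self cs h hc]; norm_num
  have hbd : cpr cs h b d = 1 := by rw [L.sym b d ob od, hdb]
  have hcd : cpr cs h c d = -1 := by rw [L.sym c d oc od, hdc]
  -- the planes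
  have A1 : cpr cs h (-b) c = -1 := by rw [cpr_neg_left _ hc, hbc]
  have A3 : cpr cs h (-c) b = -1 := by rw [cpr_neg_left _ hb, hcb]
  have A3' : cpr cs h b (-c) = -1 := by rw [cpr_neg_right cs h _ hc, hbc]
  have A5 : cpr cs h b (-d) = -1 := by rw [cpr_neg_right cs h _ hdr, hbd]
  have A6 : cpr cs h (-b) d = -1 := by rw [cpr_neg_left _ hdr, hbd]
  have A7 : cpr cs h (-c) (-d) = -1 := by rw [cpr_neg_left _ hdr.neg, cpr_neg_right cs h _ hdr, hcd]; norm_num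
  have s1 : -b + c = -d := by rw [hd]; abel
  have s3 : -c + b = d := by rw [hd]; abel
  have s3' : b + -c = d := by rw [hd]; abel
  have s4 : d + c = b := by rw [hd]; abel
  have s4' : c + d = b := by rw [hd]; abel
  have s5 : b + -d = c := by rw [hd]; abel
  have s6 : -b + d = -c := by rw [hd]; abel
  have s7 : -c + -d = -b := by rw [hd]; abel
  -- commuting root groups
  have cbc : ∀ u ∈ X b, ∀ v ∈ X c, u * v = v * u := L.comm _ _ ob oc hbc
  have cbc' : ∀ u ∈ X (-b), ∀ v ∈ X (-c), u * v = v * u :=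
    L.comm _ _ ob' oc' (by rw [cpr_neg_left _ hc.neg, cpr_neg_right cs h _ hc, hbc]; norm_num)
  have ccd : ∀ u ∈ X c, ∀ v ∈ X (-d), u * v = v * u :=
    L.comm _ _ oc od' (by rw [cpr_neg_right cs h _ hdr, hcd]; norm_num)
  have ccd' : ∀ u ∈ X (-c), ∀ v ∈ X d, u * v = v * u :=
    L.comm _ _ oc' od (by rw [cpr_neg_left _ hdr, hcd]; norm_num)
  have cbd : ∀ u ∈ X b, ∀ v ∈ X d, u * v = v * u := L.comm _ _ ob od hbd
  have cbd' : ∀ u ∈ X (-b), ∀ v ∈ X (-d), u * v = v * u :=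
    L.comm _ _ ob' od' (by rw [cpr_neg_left _ hdr.neg, cpr_neg_right cs h _ hdr, hbd]; norm_num)
  obtain ⟨ub, hub, hub1⟩ := exists_ne R hb
  obtain ⟨uc, huc, huc1⟩ := exists_ne R hc
  obtain ⟨sb, hsb, v₁, hv₁, v₂, hv₂, mb, hmb, eb⟩ := exists_mu R hb hub hub1
  obtain ⟨sc, hsc, w₁, hw₁, w₂, hw₂, mc, hmc, ec⟩ := exists_mu R hc huc huc1
  have t1 : cj (v₁ * ub) (X (-d)) = X c := by
    have h3 : cj mb (X (-d)) = X c := by
      rw [R.conj_rp hmb hdr.neg, hsb, cpr_neg_left _ hb, hdb, ← s5]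
      congr 1
      module
    rw [← h3, eb, cj_mul (v₁ * ub) v₂, cj_eq_of_comm (fun z hz => cbd' v₂ hv₂ z hz)]
  have t2 : cj (w₁ * uc) (X d) = X b := by
    have h3 : cj mc (X d) = X b := by
      rw [R.conj_rp hmc hdr, hsc, hdc, ← s4]
      congr 1
      module
    rw [← h3, ec, cj_mul (w₁ * uc) w₂, cj_eq_of_comm (fun z hz => ccd' w₂ hw₂ z hz)]
  have hw₁1 : w₁ ≠ 1 := by
    rintro rfl
    rw [one_mul] at t2
    obtain ⟨z, hz, hz1⟩ := exists_ne R hdr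
    have h3 : uc * z * uc⁻¹ ∈ X b := by rw [← t2]; exact conj_mem_cj.2 hz
    have h4 : ⁅uc, z⁆ ∈ X b := by
      have := L.mem _ _ oc od hcd _ huc _ hz
      rwa [s4'] at this
    have h5 : z ∈ X b := by
      have e : z = ⁅uc, z⁆⁻¹ * (uc * z * uc⁻¹) := by rw [commutatorElement_def]; group
      rw [e]
      exact mul_mem (inv_mem h4) h3
    have h6 := X_inf_X R hdr hb (by
      rintro rfl
      rw [cpr_self cs h hdr] at hdb
      omega)
    exact hz1 (by rw [← Subgroup.mem_bot, ← h6]; exact ⟨hz, h5⟩)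
  obtain ⟨g, hg⟩ : ∃ g, g = v₁ * w₁ * (ub * uc) := ⟨_, rfl⟩
  have g1 : cj g (X (-d)) = cj w₁ (X c) := by
    have e : g = w₁ * (v₁ * ub) * uc := by rw [hg, cbc' v₁ hv₁ w₁ hw₁]; group
    rw [e, cj_mul, cj_eq_of_comm (fun z hz => ccd uc huc z hz), cj_mul, t1]
  have g2 : cj g (X d) = cj v₁ (X b) := by
    have e : g = v₁ * (w₁ * uc) * ub := by rw [hg, cbc ub hub uc huc]; group
    rw [e, cj_mul, cj_eq_of_comm (fun z hz => cbd ub hub z hz), cj_mul, t2]
  have h3 : cj g (X (- -d)) ≤ J := by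
    rw [neg_neg, g2]
    intro x hx
    rw [mem_cj] at hx
    have h4 := h2 hv₁
    have e : x = v₁ * (v₁⁻¹ * x * v₁) * v₁⁻¹ := by group
    rw [e]
    exact mul_mem (mul_mem h4 (h1 hx)) (inv_mem h4)
  have h4 := root_step R hr ha od' hJ h3
  rw [g1] at h4
  obtain ⟨J', hJ'⟩ : ∃ J', J' = J ⊔ cj w₁ (X c) := ⟨_, rfl⟩
  rw [← hJ'] at h4
  have hJJ : J ≤ J' := hJ' ▸ le_sup_left
  have hZ : ∀ x ∈ X c, w₁ * x * w₁⁻¹ ∈ J' := fun x hx => by
    rw [hJ']
    exact Subgroup.mem_sup_right (conj_mem_cj.2 hx)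
  have hcomm : ∀ u ∈ J', ∀ v ∈ J', ⁅u, v⁆ ∈ J' := fun u hu v hv => by
    rw [commutatorElement_def]
    exact mul_mem (mul_mem (mul_mem hu hv) (inv_mem hu)) (inv_mem hv)
  -- `X (-d) ≤ J'`
  have k1 : X (-d) ≤ J' := by
    intro q hq
    obtain ⟨u, hu, hu1⟩ := exists_ne R hb.neg
    obtain ⟨x, hx, e⟩ := L.sur _ _ ob' oc A1 u hu hu1 q (by rwa [s1])
    have h5 := hcomm u (hJJ (h2 hu)) _ (hZ x hx)
    have h6 := cbc' u hu w₁ hw₁
    have h7 : ⁅u, w₁ * x * w₁⁻¹⁆ = w₁ * ⁅u, x⁆ * w₁⁻¹ := by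
      rw [commutatorElement_def, commutatorElement_def]
      have h8 : u⁻¹ * w₁ = w₁ * u⁻¹ := by
        rw [inv_mul_eq_iff_eq_mul, ← mul_assoc, h6]; group
      calc u * (w₁ * x * w₁⁻¹) * u⁻¹ * (w₁ * x * w₁⁻¹)⁻¹
          = (u * w₁) * x * (w₁⁻¹ * (u⁻¹ * w₁)) * x⁻¹ * w₁⁻¹ := by group
        _ = w₁ * (u * x * u⁻¹ * x⁻¹) * w₁⁻¹ := by rw [h6, h8]; group
    rw [h7, e] at h5
    have h8 : ⁅w₁, q⁆ ∈ J' := hJJ (h2 (by
      have := L.mem _ _ oc' od' A7 _ hw₁ _ hq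
      rwa [s7] at this))
    have e2 : q = ⁅w₁, q⁆⁻¹ * (w₁ * q * w₁⁻¹) := by rw [commutatorElement_def]; group
    rw [e2]
    exact mul_mem (inv_mem h8) h5
  -- `X d ≤ J'`
  have k2 : X d ≤ J' := by
    intro q hq
    obtain ⟨y, hy, e⟩ := L.sur _ _ oc' ob A3 _ hw₁ hw₁1 q (by rwa [s3])
    obtain ⟨u, hu, hu1⟩ := exists_ne R hb
    obtain ⟨e', he'⟩ : ∃ e', e' = ⁅u, w₁⁆ := ⟨_, rfl⟩
    have h5 : e' ∈ X d := by
      have := L.mem _ _ ob oc' A3' _ hu _ hw₁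
      rwa [s3', ← he'] at this
    have h6 : e' ≠ 1 := he' ▸ L.ne _ _ ob oc' A3' _ hu hu1 _ hw₁ hw₁1
    obtain ⟨x, hx, e2⟩ := L.sur _ _ od oc hdc _ h5 h6 y (by rwa [s4])
    have h7 := hcomm u (hJJ (h1 hu)) _ (hZ x hx)
    have h8 : u * w₁ = e' * w₁ * u := by rw [he', commutatorElement_def]; group
    have h9 : u * x = x * u := cbc u hu x hx
    have h10 : w₁ * e' = e' * w₁ := ccd' w₁ hw₁ e' h5
    have h11 : ⁅u, w₁ * x * w₁⁻¹⁆ = q * y := by
      have h12 : u * (w₁ * x * w₁⁻¹) * u⁻¹ = w₁ * (e' * x * e'⁻¹) * w₁⁻¹ := by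
        calc u * (w₁ * x * w₁⁻¹) * u⁻¹ = (u * w₁) * x * (u * w₁)⁻¹ := by group
          _ = e' * w₁ * (u * x) * u⁻¹ * w₁⁻¹ * e'⁻¹ := by rw [h8]; group
          _ = (e' * w₁) * x * (e' * w₁)⁻¹ := by rw [h9]; group
          _ = w₁ * (e' * x * e'⁻¹) * w₁⁻¹ := by rw [← h10]; group
      rw [commutatorElement_def, h12]
      calc w₁ * (e' * x * e'⁻¹) * w₁⁻¹ * (w₁ * x * w₁⁻¹)⁻¹ = w₁ * (e' * x * e'⁻¹ * x⁻¹) * w₁⁻¹ := by group
        _ = w₁ * y * w₁⁻¹ := by rw [← commutatorElement_def, e2]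
        _ = ⁅w₁, y⁆ * y := by rw [commutatorElement_def]; group
        _ = q * y := by rw [e]
    rw [h11] at h7
    have e3 : q = q * y * y⁻¹ := by group
    rw [e3]
    exact mul_mem h7 (inv_mem (hJJ (h1 hy)))
  refine ⟨J', h4, hJJ, fun q hq => ?_, fun q hq => ?_⟩
  · obtain ⟨u, hu, hu1⟩ := exists_ne R hb
    obtain ⟨x, hx, e⟩ := L.sur _ _ ob od' A5 u hu hu1 q (by rwa [s5])
    rw [← e]
    exact hcomm u (hJJ (h1 hu)) x (k1 hx)
  · obtain ⟨u, hu, hu1⟩ := exists_ne R hb.neg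
    obtain ⟨x, hx, e⟩ := L.sur _ _ ob' od A6 u hu hu1 q (by rwa [s6])
    rw [← e]
    exact hcomm u (hJJ (h2 hu)) x (k2 hx)

/-- the simple root groups generate all root groups -/
theorem X_le_of_simple {J : Subgroup Y} (hJ : ∀ i, X (sr i) ≤ J ∧ X (-sr i) ≤ J) {x : I → ℤ} (hx : IsRoot cs h x) :
    X x ≤ J := by
  have key : ∀ ω : List I, ∃ k ∈ J, Rp cs R.nsys (cs.wordProd ω) k := by
    intro ω
    induction ω with
    | nil => exact ⟨1, one_mem _, by rw [wordProd_nil]; exact rp_one⟩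
    | cons i ω ih =>
      obtain ⟨k, hk, hk'⟩ := ih
      obtain ⟨u, hu, hu1⟩ := exists_ne R (isRoot_sr cs h i)
      obtain ⟨s, hs, a, ha, b, hb, m, hm, e⟩ := exists_mu R (isRoot_sr cs h i) hu hu1
      have hss : s = cs.simple i := by
        have : (cs.simple i)⁻¹ * s = 1 := by
          refine eq_one_of_fix cs h _ fun j => ?_
          have h3 : rep cs h s (sr j) = rep cs h (cs.simple i) (sr j) := by
            rw [hs]
            have h4 : Cfsg.Agent.Nodes.SubComb.rfl' cs 1 i = cs.simple i := by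
              simp [Cfsg.Agent.Nodes.SubComb.rfl']
            have := rep_rfl'_eq cs h 1 i (sr j)
            rw [h4, map_one, Module.End.one_apply] at this
            exact this.symm
          show rep cs h ((cs.simple i)⁻¹ * s) (sr j) = sr j
          rw [rep_mul_apply, h3, rep_inv_apply]
        exact (inv_mul_eq_one.1 this).symm
      subst hss
      refine ⟨m * k, mul_mem ?_ hk, ?_⟩
      · rw [e]
        exact mul_mem (mul_mem ((hJ i).2 ha) ((hJ i).1 hu)) ((hJ i).2 hb)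
      · rw [wordProd_cons]
        exact hm.mul hk'
  obtain ⟨w, i, rfl⟩ := hx
  obtain ⟨ω, rfl⟩ := cs.wordProd_surjective w
  obtain ⟨k, hk, hk'⟩ := key ω
  rw [← R.conj_rp hk' (isRoot_sr cs h i)]
  intro y hy
  rw [mem_cj] at hy
  have e : y = k * (k⁻¹ * y * k) * k⁻¹ := by group
  rw [e]
  exact mul_mem (mul_mem hk ((hJ i).1 hy)) (inv_mem hk)

/-- **The chain**, for a family of roots `β i`. -/
theorem chain_fam {r : I → ℤ} (L : LongR R r) {a : MulAut Y} (ha : ∀ x, a x ∈ X r ↔ x ∈ X (-r)) {ι : Type*}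
    [Fintype ι] [DecidableEq ι] {β : ι → I → ℤ} (hβ : ∀ i, Orb cs h r (β i))
    (hconn : ∀ S : Finset ι, S.Nonempty → S ≠ Finset.univ → ∃ j ∈ S, ∃ i ∉ S, cpr cs h (β j) (β i) = -1) :
    ∀ (m : ℕ) (S : Finset ι) (J : Subgroup Y) (k : ℕ), S.Nonempty → S.card + m = Fintype.card ι → Reach a k J →
      (∀ i ∈ S, X (β i) ≤ J ∧ X (-β i) ≤ J) →
      ∃ J', Reach a (k + m) J' ∧ J ≤ J' ∧ ∀ i, X (β i) ≤ J' ∧ X (-β i) ≤ J' := by
  intro m
  induction m with
  | zero =>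
    intro S J k _ hc hJ hS
    have hSu : S = Finset.univ := (Finset.card_eq_iff_eq_univ S).1 (by simpa using hc)
    exact ⟨J, hJ, le_refl _, fun i => hS i (hSu ▸ Finset.mem_univ i)⟩
  | succ m ih =>
    intro S J k hne hc hJ hS
    have hSu : S ≠ Finset.univ := by
      rintro rfl
      rw [Finset.card_univ] at hc
      omega
    obtain ⟨j, hj, i, hi, hji⟩ := hconn S hne hSu
    have hi' := (hβ i).isRoot L.root
    obtain ⟨J', h1, h2, h3, h4⟩ := chain_step R L ha (b := -β j) (c := β i) ((hβ j).neg L.root) (hβ i)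
      (by rw [cpr_neg_left _ hi', hji]; norm_num) hJ (hS j hj).2 (by rw [neg_neg]; exact (hS j hj).1)
    obtain ⟨J'', h5, h6, h7⟩ := ih (insert i S) J' (k + 1) (Finset.insert_nonempty _ _) (by
      rw [Finset.card_insert_of_notMem hi]; omega) h1 (by
      intro i' hi'
      rcases Finset.mem_insert.1 hi' with rfl | h6
      · exact ⟨h3, h4⟩
      · exact ⟨(hS i' h6).1.trans h2, (hS i' h6).2.trans h2⟩)
    refine ⟨J'', ?_, h2.trans h6, h7⟩
    have e : k + (m + 1) = k + 1 + m := by omega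
    rw [e]
    exact h5

/-- **The chain** of the simple roots. -/
theorem chain_top {r : I → ℤ} (L : LongR R r) (hG : RGD.Sup X {x | IsRoot cs h x} = ⊤) {a : MulAut Y}
    (ha : ∀ x, a x ∈ X r ↔ x ∈ X (-r)) (hβ : ∀ i, Orb cs h r (sr i))
    (hconn : ∀ S : Finset I, S.Nonempty → S ≠ Finset.univ → ∃ j ∈ S, ∃ i ∉ S, cpr cs h (sr j) (sr i) = -1)
    {m : ℕ} {S : Finset I} {J : Subgroup Y} {k : ℕ} (hne : S.Nonempty) (hc : S.card + m = Fintype.card I)
    (hJ : Reach a k J) (hS : ∀ i ∈ S, X (sr i) ≤ J ∧ X (-sr i) ≤ J) : Reach a (k + m) ⊤ := by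
  obtain ⟨J', h1, -, h2⟩ := chain_fam R L ha hβ hconn m S J k hne hc hJ hS
  have h3 : J' = ⊤ := by
    rw [← top_le_iff, ← hG]
    exact RGD.Sup_le fun x hx u hu => X_le_of_simple R h2 hx hu
  rwa [← h3]

end Step

end Cfsg.Agent.H441.GS
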