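import Cfsg.Agent.H441.GS.Semi

/-!
# The form of an automorphism, arbitrary diagram part (S4327, exceptional groups), helper441

* `exists_form` : up to conjugation `α = conj (k b) β`, `k` over `w`, `b ∈ B`, `β` a frame automorphism with diagram
  part `σ`, the length of `w` maximal; `w ≠ 1` if `α ≠ 1`;
* `exists_swap_gen`, `semi_gen` : if `w δ = -(δ ∘ σ)` for a long root `δ`, then `α` maps (after conjugation) `X (-r)`
  onto `X r`, semilinearly.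
-/

set_option autoImplicit false
set_option linter.unusedSectionVars false

namespace Cfsg.Agent.H441.GS

open CoxeterSystem Cfsg.Agent.ChevalleyStructure.CoxeterGeom Cfsg.Agent.Tits.Roots Cfsg.Agent.Tits.Core
  Cfsg.Agent.Tits.Exchange Cfsg.Agent.Nodes.Reps Cfsg.Agent.Nodes.BNOf Cfsg.Agent.Nodes.StabComb
  Cfsg.Agent.Nodes.Bruhat Cfsg.Agent.Nodes.OppDec Cfsg.Agent.Nodes.LeviDec Cfsg.Agent.Nodes.NormalForm
  Cfsg.Agent.Nodes.Coroot Cfsg.Agent.Nodes.PosPair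
open Cfsg.Agent.KFacts.RgdOpp Cfsg.Agent.KFacts.RgdAut Cfsg.Agent.KFacts.RgdDiag Cfsg.Agent.KFacts.RgdRigid
  Cfsg.Agent.KFacts.RgdField Cfsg.Agent.KFacts.RgdTau
open scoped commutatorElement

variable {I W Y : Type*} [Fintype I] [DecidableEq I] [Group W] [Group Y] {M : CoxeterMatrix I}
  {cs : CoxeterSystem M W} {A : I → I → ℤ} {h : IsCartan M A} {p : ℕ} {T : Subgroup Y} {n : I → Y}
  {X : (I → ℤ) → Subgroup Y}

variable (R : RGD cs h p T n X) [Finite W]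

include R

/-- if all Borel subgroups are fixed, the automorphism is trivial -/
theorem eq_one_of_max [IsSimpleGroup Y] (hG : GG cs h T X = ⊤) (hBt : RGD.B cs h T X ≠ ⊤) {β : MulAut Y} {g : Y}
    (hmax : ∀ (z : Y) (w' : W), Cell R.nsys cs h X w' (z * g * (β z)⁻¹) → cs.length w' ≤ 0) :
    MulAut.conj g * β = 1 := by
  have hall : ∀ z : Y, z * g * (β z)⁻¹ ∈ RGD.B cs h T X := by
    intro z
    obtain ⟨w', hw'⟩ := (mem_GG R).1 (hG ▸ Subgroup.mem_top (z * g * (β z)⁻¹))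
    have h1 := hmax z w' hw'
    rw [Nat.le_zero, cs.length_eq_zero_iff] at h1
    subst h1
    exact hw'.mem_of_one
  have hgB : g ∈ RGD.B cs h T X := by simpa using hall 1
  obtain ⟨γ, hγd⟩ : ∃ γ, γ = MulAut.conj g * β := ⟨_, rfl⟩
  rw [← hγd]
  have hγ : ∀ z, z * (γ z)⁻¹ ∈ RGD.B cs h T X := by
    intro z
    have h1 := mul_mem (hall z) (inv_mem hgB)
    have e : z * g * (β z)⁻¹ * g⁻¹ = z * (γ z)⁻¹ := by
      rw [hγd]
      change _ = z * (g * β z * g⁻¹)⁻¹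
      group
    rwa [e] at h1
  let N : Subgroup Y := Subgroup.closure (Set.range fun z => z * (γ z)⁻¹)
  have hN : N.Normal := by
    refine ⟨fun x hx z => ?_⟩
    induction hx using Subgroup.closure_induction with
    | mem x hx =>
      obtain ⟨u, rfl⟩ := hx
      have e : z * (u * (γ u)⁻¹) * z⁻¹ = (z * u * (γ (z * u))⁻¹) * (z * (γ z)⁻¹)⁻¹ := by
        rw [map_mul]; group
      dsimp only
      rw [e]
      exact mul_mem (Subgroup.subset_closure ⟨_, rfl⟩) (inv_mem (Subgroup.subset_closure ⟨_, rfl⟩))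
    | one => rw [mul_one, mul_inv_cancel]; exact one_mem _
    | mul a b _ _ ha hb =>
      have e : z * (a * b) * z⁻¹ = (z * a * z⁻¹) * (z * b * z⁻¹) := by group
      rw [e]; exact mul_mem ha hb
    | inv a _ ha =>
      have e : z * a⁻¹ * z⁻¹ = (z * a * z⁻¹)⁻¹ := by group
      rw [e]; exact inv_mem ha
  have hNB : N ≤ RGD.B cs h T X := by
    rw [Subgroup.closure_le]
    rintro _ ⟨z, rfl⟩
    exact hγ z
  rcases hN.eq_bot_or_eq_top with h1 | h1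
  · ext z
    have h2 : z * (γ z)⁻¹ ∈ N := Subgroup.subset_closure ⟨z, rfl⟩
    rw [h1, Subgroup.mem_bot, mul_inv_eq_one] at h2
    rw [MulAut.one_apply]
    exact h2.symm
  · exact absurd (top_le_iff.1 (h1 ▸ hNB)) hBt

/-- **The form of an automorphism.** -/
theorem exists_form [Finite Y] [Fact p.Prime] [IsSimpleGroup Y] (hG : GG cs h T X = ⊤)
    (hBt : RGD.B cs h T X ≠ ⊤) (α : MulAut Y) :
    ∃ (y k b : Y) (w : W) (β : MulAut Y) (σ : Equiv.Perm I),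
      MulAut.conj y * α * (MulAut.conj y)⁻¹ = MulAut.conj (k * b) * β ∧ Rp cs R.nsys w k ∧
      b ∈ RGD.B cs h T X ∧ Diag T X β σ ∧ Fix β (RGD.B cs h T X) ∧ (α ≠ 1 → w ≠ 1) ∧
      (∀ (z : Y) (w' : W), Cell R.nsys cs h X w' (z * (k * b) * (β z)⁻¹) → cs.length w' ≤ cs.length w) ∧
      ∀ i, rep cs h w (sr (σ i)) = sr i ∨ (rep cs h w (sr (σ i)) ≤ 0 ∧ rep cs h w⁻¹ (sr i) ≤ 0) := by
  obtain ⟨g₀, σ, D, hB⟩ := Cfsg.Agent.H934.RowRgd.exists_conj_diag R hG α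
  obtain ⟨β, hβ⟩ : ∃ β, β = MulAut.conj g₀ * α := ⟨_, rfl⟩
  rw [← hβ] at D hB
  have hαβ : α = MulAut.conj g₀⁻¹ * β := by rw [hβ, map_inv, inv_mul_cancel_left]
  have hconj : ∀ y : Y, MulAut.conj y * α * (MulAut.conj y)⁻¹ = MulAut.conj (y * g₀⁻¹ * (β y)⁻¹) * β := by
    intro y
    rw [hαβ]
    ext x
    simp only [MulAut.mul_apply, MulAut.conj_apply, ← map_inv MulAut.conj, map_mul β, map_inv β, mul_inv_rev, inv_inv,
      mul_assoc]
  obtain ⟨y, w, hy, hmax⟩ := exists_max R hG β g₀⁻¹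
  have hst := step R D hB hy hmax
  obtain ⟨b₁, hb₁, k, hk, b₂, hb₂, e⟩ := hy
  have e1 : b₁⁻¹ * y * g₀⁻¹ * (β (b₁⁻¹ * y))⁻¹ = k * (b₂ * β b₁) := by
    rw [map_mul, map_inv, mul_inv_rev, inv_inv]
    calc b₁⁻¹ * y * g₀⁻¹ * ((β y)⁻¹ * β b₁) = b₁⁻¹ * (y * g₀⁻¹ * (β y)⁻¹) * β b₁ := by group
      _ = k * (b₂ * β b₁) := by rw [e]; group
  have hmax' : ∀ (z : Y) (w' : W), Cell R.nsys cs h X w' (z * (k * (b₂ * β b₁)) * (β z)⁻¹) →
      cs.length w' ≤ cs.length w := by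
    intro z w' hz
    refine hmax (z * b₁⁻¹) w' ?_
    have e2 : z * b₁⁻¹ * (y * g₀⁻¹ * (β y)⁻¹) * (β (z * b₁⁻¹))⁻¹ = z * (k * (b₂ * β b₁)) * (β z)⁻¹ := by
      rw [← e1, map_mul, map_mul, map_inv]; group
    rwa [e2]
  refine ⟨b₁⁻¹ * y, k, b₂ * β b₁, w, β, σ, ?_, hk, mul_mem hb₂ ((hB b₁).2 hb₁), D, hB, ?_, hmax', hst⟩
  · rw [hconj, e1]
  · rintro hα rfl
    apply hα
    have h1 := eq_one_of_max R hG hBt (β := β) (g := k * (b₂ * β b₁)) (fun z w' hz => by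
      have := hmax' z w' hz
      rwa [cs.length_one] at this)
    have h2 := hconj (b₁⁻¹ * y)
    rw [e1, h1] at h2
    have h3 : MulAut.conj (b₁⁻¹ * y) * α = MulAut.conj (b₁⁻¹ * y) := mul_inv_eq_one.1 h2
    exact mul_eq_left.1 h3

/-- **The swap, arbitrary diagram part.** -/
theorem exists_swap_gen {r : I → ℤ} (hr : IsRoot cs h r) (hd : ∀ i, 0 ≤ cpr cs h (sr i) r)
    (hc : ∀ x, IsRoot cs h x → 0 ≤ cpr cs h x r → ∀ u ∈ X x, ∀ z ∈ X r, u * z = z * u) {v w : W}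
    {σ : Equiv.Perm I} (hA : ∀ i j, A (σ i) (σ j) = A i j)
    (hwv : rep cs h w (rep cs h v r) = -(rep cs h v r ∘ σ)) {w₁ : W} (hw₁ : rep cs h w₁ r = -rep cs h v r)
    {α β : MulAut Y} {y k b : Y} (hk : Rp cs R.nsys w k)
    (hb : b ∈ RGD.B cs h T X) (D : Diag T X β σ)
    (hα : MulAut.conj y * α * (MulAut.conj y)⁻¹ = MulAut.conj (k * b) * β) :
    ∃ y' k₁ k₂ : Y, Rp cs R.nsys v k₁ ∧ Rp cs R.nsys (w * v) k₂ ∧
      (∀ x, (MulAut.conj y' * α * (MulAut.conj y')⁻¹) x ∈ X r ↔ x ∈ X (-r)) ∧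
      ∀ z ∈ X (-r), (MulAut.conj y' * α * (MulAut.conj y')⁻¹) z =
        (MulAut.conj k₁⁻¹ * β * MulAut.conj k₂) z := by
  have hρ := hr.act v
  obtain ⟨ρ, hρd⟩ : ∃ ρ, ρ = rep cs h v r := ⟨_, rfl⟩
  have hρσ : IsRoot cs h (rep cs h v r ∘ σ) := by
    have := (hρ.act w).neg
    rwa [hwv, neg_neg] at this
  obtain ⟨t, ht, c₁, c₂, e, hc₁, hc₂⟩ := exists_fac' R hr hd hc v w₁ hw₁ hb
  obtain ⟨kv, hkv⟩ := exists_rp cs R.nsys v
  have hβ : ∀ x, β x ∈ X (rep cs h v r) ↔ x ∈ X (rep cs h v r ∘ σ) := fun x => by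
    have h1 := Diag.root_comp R D hA hρσ x
    have h2 : (rep cs h v r ∘ σ) ∘ σ.symm = rep cs h v r := by
      funext i
      simp
    rwa [h2] at h1
  have hkt : Rp cs R.nsys w (k * t) := by
    have := hk.mul (rp_of_mem (cs := cs) (hN := R.nsys) ht)
    rwa [mul_one] at this
  have hk₂ : Rp cs R.nsys (w * v) (k * t * kv) := hkt.mul hkv
  have hkvρ' : ∀ z ∈ X (-r), kv * z * kv⁻¹ ∈ X (-rep cs h v r) := by
    intro z hz
    have := R.conj_mem hkv hr.neg hz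
    rwa [map_neg] at this
  have hgen : ∀ x, (MulAut.conj (kv⁻¹ * (k * t * c₁)⁻¹ * y) * α * (MulAut.conj (kv⁻¹ * (k * t * c₁)⁻¹ * y))⁻¹) x =
      (k * t * c₁ * kv)⁻¹ * (MulAut.conj (k * b) * β) ((k * t * c₁ * kv) * x * (k * t * c₁ * kv)⁻¹) *
        (k * t * c₁ * kv) := by
    intro x
    rw [← hα]
    simp only [MulAut.mul_apply, MulAut.conj_apply, ← map_inv MulAut.conj, mul_inv_rev, inv_inv, mul_assoc]
  have hz : ∀ z ∈ X (-r), (MulAut.conj (kv⁻¹ * (k * t * c₁)⁻¹ * y) * α *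
      (MulAut.conj (kv⁻¹ * (k * t * c₁)⁻¹ * y))⁻¹) z = (MulAut.conj kv⁻¹ * β * MulAut.conj (k * t * kv)) z := by
    intro z hz
    have h1 := hkvρ' z hz
    have h2 := hc₁ _ h1
    have h3 : k * t * c₁ * kv * z * (k * t * c₁ * kv)⁻¹ = k * t * kv * z * (k * t * kv)⁻¹ := by
      calc k * t * c₁ * kv * z * (k * t * c₁ * kv)⁻¹ = k * t * (c₁ * (kv * z * kv⁻¹)) * c₁⁻¹ * t⁻¹ * k⁻¹ := by group
        _ = k * t * kv * z * (k * t * kv)⁻¹ := by rw [h2]; group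
    have h4 : k * t * kv * z * (k * t * kv)⁻¹ ∈ X (rep cs h v r ∘ σ) := by
      have := R.conj_mem hk₂ hr.neg hz
      rwa [map_neg, rep_mul_apply, hwv, neg_neg] at this
    have h5 := hc₂ _ ((hβ _).2 h4)
    rw [hgen, h3, MulAut.mul_apply, MulAut.mul_apply, MulAut.mul_apply, MulAut.conj_apply, MulAut.conj_apply,
      MulAut.conj_apply, e]
    calc (k * t * c₁ * kv)⁻¹ * (k * (t * c₁ * c₂) * β (k * t * kv * z * (k * t * kv)⁻¹) *
          (k * (t * c₁ * c₂))⁻¹) * (k * t * c₁ * kv)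
        = kv⁻¹ * (c₂ * β (k * t * kv * z * (k * t * kv)⁻¹)) * c₂⁻¹ * kv := by group
      _ = _ := by rw [h5]; group
  refine ⟨kv⁻¹ * (k * t * c₁)⁻¹ * y, kv, k * t * kv, hkv, hk₂, fun x => ?_, hz⟩
  have hmap : ∀ z, (MulAut.conj kv⁻¹ * β * MulAut.conj (k * t * kv)) z ∈ X r ↔ z ∈ X (-r) := by
    intro z
    rw [MulAut.mul_apply, MulAut.mul_apply, MulAut.conj_apply, MulAut.conj_apply, inv_inv]
    have h1 : kv⁻¹ * β (k * t * kv * z * (k * t * kv)⁻¹) * kv ∈ X r ↔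
        β (k * t * kv * z * (k * t * kv)⁻¹) ∈ X (rep cs h v r) := by
      rw [← mem_cj, R.conj_rp hkv hr]
    have h2 : k * t * kv * z * (k * t * kv)⁻¹ ∈ X (rep cs h v r ∘ σ) ↔ z ∈ X (-r) := by
      have h3 : cj (k * t * kv) (X (-r)) = X (rep cs h v r ∘ σ) := by
        rw [R.conj_rp hk₂ hr.neg, map_neg, rep_mul_apply, hwv, neg_neg]
      rw [← h3, conj_mem_cj]
    rw [h1, hβ, h2]
  constructor
  · intro hx
    obtain ⟨z, e1⟩ : ∃ z, (MulAut.conj kv⁻¹ * β * MulAut.conj (k * t * kv)) z =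
        (MulAut.conj (kv⁻¹ * (k * t * c₁)⁻¹ * y) * α * (MulAut.conj (kv⁻¹ * (k * t * c₁)⁻¹ * y))⁻¹) x :=
      (MulAut.conj kv⁻¹ * β * MulAut.conj (k * t * kv)).surjective _
    have hz1 : z ∈ X (-r) := (hmap z).1 (by rwa [e1])
    rw [← hz z hz1] at e1
    have := (MulAut.conj (kv⁻¹ * (k * t * c₁)⁻¹ * y) * α * (MulAut.conj (kv⁻¹ * (k * t * c₁)⁻¹ * y))⁻¹).injective e1
    rwa [← this]
  · intro hx
    rw [hz x hx]
    exact (hmap x).2 hx

variable {F : Type*} [Field F] {x : (I → ℤ) → F → Y} {χ : (I → ℤ) → Y → F} {hh : I → F → Y}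

/-- the orders of the diagram and the field automorphism -/
theorem tau_pow_gen [Nonempty I] (hG : GG cs h T X = ⊤) (C : Coords cs h T n X x χ) {α β : MulAut Y} {u : Y}
    (hβ : β = MulAut.conj u * α) {m : ℕ} (hm : α ^ m = 1) {σ : Equiv.Perm I} {τ : F ≃+* F}
    (S : Tau T X χ A β σ τ) : σ ^ m = 1 ∧ τ ^ m = 1 := by
  obtain ⟨v, e⟩ := conj_pow u α m
  rw [← hβ, hm, mul_one] at e
  have S1 := S.pow m
  rw [e] at S1
  have hv : v ∈ T := by
    have h1 : v ∈ RGD.B cs h T X := by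
      rw [← normalizer_U' R hG, Subgroup.mem_normalizer_iff]
      intro y
      exact (fix_U R S1.diag S1.cartan y).symm
    have h2 : v ∈ BN cs h T X := by
      rw [← normalizer_UN R hG, Subgroup.mem_normalizer_iff]
      intro y
      exact (fix_UN' R S1.diag S1.cartan y).symm
    rw [← B_inf_BN R]
    exact ⟨h1, h2⟩
  have S2 : Tau T X χ A (MulAut.conj v) 1 1 := by
    refine ⟨⟨?_, ?_, ?_⟩, fun i j => rfl, fun i t ht => (C.coord _ (isRoot_sr cs h i)).chi_conj hv ht⟩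
    · intro t
      exact (Subgroup.mem_normalizer_iff.1 (Subgroup.le_normalizer hv) t).symm
    · intro i z
      rw [Equiv.Perm.one_apply, MulAut.conj_apply]
      have h1 := R.tor _ (isRoot_sr cs h i) v hv
      conv_lhs => rw [← h1]
      rw [conj_mem_cj]
    · intro i z
      rw [Equiv.Perm.one_apply, MulAut.conj_apply]
      have h1 := R.tor _ (isRoot_sr cs h i).neg v hv
      conv_lhs => rw [← h1]
      rw [conj_mem_cj]
  exact Tau.unique R C S1 S2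

/-- **The semilinear map, arbitrary diagram part.** -/
theorem semi_gen [Nonempty I] (hG : GG cs h T X = ⊤)
    (C : Coords cs h T n X x χ) (H : Coroots A T X χ hh)
    (hconn : ∀ J : Set I, J.Nonempty → J ≠ Set.univ → ∃ a ∈ J, ∃ b, b ∉ J ∧ M a b ≠ 2)
    {r : I → ℤ} (hr : IsRoot cs h r) (hd : ∀ i, 0 ≤ cpr cs h (sr i) r)
    (hc : ∀ x, IsRoot cs h x → 0 ≤ cpr cs h x r → ∀ u ∈ X x, ∀ z ∈ X r, u * z = z * u) {v w : W}
    {σ : Equiv.Perm I} (hA : ∀ i j, A (σ i) (σ j) = A i j)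
    (hwv : rep cs h w (rep cs h v r) = -(rep cs h v r ∘ σ)) {w₁ : W} (hw₁ : rep cs h w₁ r = -rep cs h v r)
    {α β : MulAut Y} {y₀ k b : Y} (hk : Rp cs R.nsys w k)
    (hb : b ∈ RGD.B cs h T X) (D : Diag T X β σ)
    (e : MulAut.conj y₀ * α * (MulAut.conj y₀)⁻¹ = MulAut.conj (k * b) * β) {m : ℕ} (hm : α ^ m = 1) :
    ∃ (y : Y) (τ : F ≃+* F) (c : F), c ≠ 0 ∧ τ ^ m = 1 ∧
      (∀ z, (MulAut.conj y * α * (MulAut.conj y)⁻¹) z ∈ X r ↔ z ∈ X (-r)) ∧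
      ∀ t, (MulAut.conj y * α * (MulAut.conj y)⁻¹) (x (-r) t) = x r (c * τ t) := by
  have hρ := hr.act v
  have hρσ : IsRoot cs h (rep cs h v r ∘ σ) := by
    have := (hρ.act w).neg
    rwa [hwv, neg_neg] at this
  obtain ⟨y, k₁, k₂, hk₁, hk₂, h1, h2⟩ := exists_swap_gen R hr hd hc hA hwv hw₁ hk hb D e
  obtain ⟨τ, S⟩ := exists_tau R C H hconn D hA
  have hτ : τ ^ m = 1 := by
    refine (tau_pow_gen R hG C (α := α) (u := (k * b)⁻¹ * (y₀ * (α y₀)⁻¹)) ?_ hm S).2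
    have h3 : β = (MulAut.conj (k * b))⁻¹ * (MulAut.conj y₀ * α * (MulAut.conj y₀)⁻¹) := by
      rw [e, inv_mul_cancel_left]
    rw [h3]
    ext z
    simp only [MulAut.mul_apply, MulAut.conj_apply, ← map_inv MulAut.conj, map_mul α, map_inv α, mul_inv_rev,
      inv_inv, mul_assoc]
  obtain ⟨γ, hγ⟩ : ∃ γ, γ = MulAut.conj k₁⁻¹ * β * MulAut.conj k₂ := ⟨_, rfl⟩
  rw [← hγ] at h2
  have hγT : Fix γ T := by
    intro z
    rw [hγ, MulAut.mul_apply, MulAut.mul_apply, MulAut.conj_apply, MulAut.conj_apply]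
    rw [← Subgroup.mem_normalizer_iff.1 hk₁.inv.mem_normalizer, D.tor,
      ← Subgroup.mem_normalizer_iff.1 hk₂.mem_normalizer]
  have hγX : ∀ z, γ z ∈ X r ↔ z ∈ X (-r) := by
    intro z
    constructor
    · intro hz
      obtain ⟨z', e1⟩ := (MulAut.conj y * α * (MulAut.conj y)⁻¹).surjective (γ z)
      have h3 : z' ∈ X (-r) := (h1 z').1 (by rwa [e1])
      rw [h2 z' h3] at e1
      rwa [← γ.injective e1]
    · intro hz
      rw [← h2 z hz]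
      exact (h1 z).2 hz
  obtain ⟨τ', c, hc0, h3, h4⟩ := (C.coord _ hr.neg).exists_semi (C.coord _ hr) hγT hγX
  have hττ : τ' = τ := by
    apply (C.coord _ hr.neg).ext
    intro t ht
    rw [← h4 t ht]
    have h5 : k₂ * t * k₂⁻¹ ∈ T := (Subgroup.mem_normalizer_iff.1 hk₂.mem_normalizer t).1 ht
    have h6 : χ (rep cs h v r ∘ σ) (k₂ * t * k₂⁻¹) = χ (-r) t := by
      have := C.chi_rp R.nsys hk₂ hr.neg ht
      rwa [map_neg, rep_mul_apply, hwv, neg_neg] at this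
    have h7 : χ (rep cs h v r) (β (k₂ * t * k₂⁻¹)) = τ (χ (rep cs h v r ∘ σ) (k₂ * t * k₂⁻¹)) := by
      have h7' := Tau.char_root R C S hρσ h5
      have h2 : (rep cs h v r ∘ σ) ∘ σ.symm = rep cs h v r := by
        funext i
        simp
      rwa [h2] at h7'
    have h8 : γ t ∈ T := (hγT t).2 ht
    have h9 : χ (rep cs h v r) (k₁ * γ t * k₁⁻¹) = χ r (γ t) := C.chi_rp R.nsys hk₁ hr h8
    have h10 : k₁ * γ t * k₁⁻¹ = β (k₂ * t * k₂⁻¹) := by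
      rw [hγ, MulAut.mul_apply, MulAut.mul_apply, MulAut.conj_apply, MulAut.conj_apply]
      group
    rw [← h9, h10, h7, h6]
  refine ⟨y, τ, c, hc0, hτ, h1, fun t => ?_⟩
  rw [h2 _ (((C.coord _ hr.neg).mem _).2 ⟨t, rfl⟩), h3, hττ]

end Cfsg.Agent.H441.GS
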