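import Cfsg.Agent.H441.GS.Opp
import Cfsg.Agent.KFacts.RgdTau

/-!
# The semilinear map `X (-r) → X r` (S4327, exceptional groups), helper441

* `exists_semi` : after conjugation `α` maps `X (-r)` onto `X r`: `x (-r) t ↦ x r (c * τ t)`, and `τ ^ m = 1` if
  `α ^ m = 1`.
-/

set_option autoImplicit false
set_option linter.unusedSectionVars false

namespace Cfsg.Agent.H441.GS

open CoxeterSystem Cfsg.Agent.ChevalleyStructure.CoxeterGeom Cfsg.Agent.Tits.Roots Cfsg.Agent.Tits.Core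
  Cfsg.Agent.Tits.Exchange Cfsg.Agent.Nodes.Reps Cfsg.Agent.Nodes.BNOf Cfsg.Agent.Nodes.StabComb
  Cfsg.Agent.Nodes.Bruhat Cfsg.Agent.Nodes.OppDec Cfsg.Agent.Nodes.LeviDec Cfsg.Agent.Nodes.NormalForm
  Cfsg.Agent.Nodes.Coroot Cfsg.Agent.Nodes.PosPair
open Cfsg.Agent.KFacts.RgdOpp Cfsg.Agent.KFacts.RgdAut Cfsg.Agent.KFacts.RgdDiag Cfsg.Agent.KFacts.RgdRigid
  Cfsg.Agent.KFacts.RgdField Cfsg.Agent.KFacts.RgdTau
open scoped commutatorElement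

variable {I W Y : Type*} [Fintype I] [DecidableEq I] [Group W] [Group Y] {M : CoxeterMatrix I}
  {cs : CoxeterSystem M W} {A : I → I → ℤ} {h : IsCartan M A} {p : ℕ} {T : Subgroup Y} {n : I → Y}
  {X : (I → ℤ) → Subgroup Y}

section Swap

variable (R : RGD cs h p T n X) [Finite W]

include R

/-- every element of `B` is `t c₁ c₂`, `t ∈ T`, `c₁` centralising `X (-ρ)` and `c₂` centralising `X ρ` -/
theorem exists_fac' {r : I → ℤ} (hr : IsRoot cs h r) (hd : ∀ i, 0 ≤ cpr cs h (sr i) r)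
    (hc : ∀ x, IsRoot cs h x → 0 ≤ cpr cs h x r → ∀ u ∈ X x, ∀ z ∈ X r, u * z = z * u) (v w₁ : W)
    (hw₁ : rep cs h w₁ r = -rep cs h v r) {b : Y} (hb : b ∈ RGD.B cs h T X) :
    ∃ t ∈ T, ∃ c₁ c₂ : Y, b = t * c₁ * c₂ ∧ (∀ z ∈ X (-rep cs h v r), c₁ * z = z * c₁) ∧
      ∀ z ∈ X (rep cs h v r), c₂ * z = z * c₂ := by
  have hρ := hr.act v
  obtain ⟨t, ht, u, hu, e⟩ := R.mem_B.1 hb
  obtain ⟨a, ha, c, hc', e'⟩ := exists_PW_NW R v⁻¹ (inv_mem hu)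
  have hd' : ∀ x : I → ℤ, 0 ≤ x → 0 ≤ cpr cs h x r := fun x h0 => by
    rw [← ell_apply cs h hr]
    exact Cfsg.Agent.KFacts.RgdPar.dom_nonneg (f := ell cs h hr) hd h0
  have hval : ∀ x, cpr cs h x (rep cs h v r) = cpr cs h (rep cs h v⁻¹ x) r := by
    intro x
    have := cpr_rep cs h v⁻¹ x (hr.act v)
    rw [rep_inv_apply] at this
    exact this.symm
  have hnorm : ∀ (S : Set (I → ℤ)) (y : I → ℤ) (g : Y), (∀ x ∈ S, ∀ u ∈ X x, ∀ z ∈ X y, u * z = z * u) →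
      g ∈ RGD.Sup X S → ∀ z ∈ X y, g * z = z * g := by
    intro S y g hS hg z hz
    have h1 : RGD.Sup X S ≤ Subgroup.centralizer (X y : Set Y) :=
      RGD.Sup_le fun x hx u hu => Subgroup.mem_centralizer_iff.2 fun z hz => (hS x hx u hu z hz).symm
    exact (Subgroup.mem_centralizer_iff.1 (h1 hg) z hz).symm
  refine ⟨t, ht, c⁻¹, a⁻¹, ?_, ?_, ?_⟩
  · rw [e, ← inv_inv u, e', mul_inv_rev, mul_assoc]
  · refine hnorm (NW cs h v⁻¹) (-rep cs h v r) c⁻¹ ?_ (inv_mem hc')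
    intro x hx u hu z hz
    have h1 : 0 ≤ cpr cs h x (rep cs h w₁ r) := by
      rw [hw₁, cpr_neg_right cs h _ hρ, hval]
      have h2 := hd' (-rep cs h v⁻¹ x) (neg_nonneg.2 hx.2.2)
      rwa [cpr_neg cs h _ hr] at h2
    rw [← hw₁] at hz
    exact comm_act R hr hc w₁ hx.1 h1 hu hz
  · refine hnorm (PW cs h v⁻¹) (rep cs h v r) a⁻¹ ?_ (inv_mem ha)
    intro x hx u hu z hz
    refine comm_act R hr hc v hx.1 ?_ hu hz
    rw [hval]
    exact hd' _ hx.2.2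

/-- **The swap, with the map on `X (-r)`.** -/
theorem exists_swap' {r : I → ℤ} (hr : IsRoot cs h r) (hd : ∀ i, 0 ≤ cpr cs h (sr i) r)
    (hc : ∀ x, IsRoot cs h x → 0 ≤ cpr cs h x r → ∀ u ∈ X x, ∀ z ∈ X r, u * z = z * u) {v w : W}
    (hwv : rep cs h w (rep cs h v r) = -rep cs h v r) {α β : MulAut Y} {y k b : Y} (hk : Rp cs R.nsys w k)
    (hb : b ∈ RGD.B cs h T X) (D : Diag T X β 1)
    (hα : MulAut.conj y * α * (MulAut.conj y)⁻¹ = MulAut.conj (k * b) * β) :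
    ∃ y' k₁ k₂ : Y, Rp cs R.nsys v k₁ ∧ Rp cs R.nsys (w * v) k₂ ∧
      (∀ x, (MulAut.conj y' * α * (MulAut.conj y')⁻¹) x ∈ X r ↔ x ∈ X (-r)) ∧
      ∀ z ∈ X (-r), (MulAut.conj y' * α * (MulAut.conj y')⁻¹) z =
        (MulAut.conj k₁⁻¹ * β * MulAut.conj k₂) z := by
  have hρ := hr.act v
  obtain ⟨t, ht, c₁, c₂, e, hc₁, hc₂⟩ := exists_fac' R hr hd hc v (w * v) (by rw [rep_mul_apply, hwv]) hb
  obtain ⟨kv, hkv⟩ := exists_rp cs R.nsys v
  have hβ : ∀ x, β x ∈ X (rep cs h v r) ↔ x ∈ X (rep cs h v r) := fun x => Diag.root_comp R D (fun i j => rfl) hρ x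
  have hkt : Rp cs R.nsys w (k * t) := by
    have := hk.mul (rp_of_mem (cs := cs) (hN := R.nsys) ht)
    rwa [mul_one] at this
  have hk₂ : Rp cs R.nsys (w * v) (k * t * kv) := hkt.mul hkv
  have hkvρ' : ∀ z ∈ X (-r), kv * z * kv⁻¹ ∈ X (-rep cs h v r) := by
    intro z hz
    have := R.conj_mem hkv hr.neg hz
    rwa [map_neg] at this
  have hgen : ∀ x, (MulAut.conj (kv⁻¹ * (k * t * c₁)⁻¹ * y) * α * (MulAut.conj (kv⁻¹ * (k * t * c₁)⁻¹ * y))⁻¹) x =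
      (k * t * c₁ * kv)⁻¹ * (MulAut.conj (k * b) * β) ((k * t * c₁ * kv) * x * (k * t * c₁ * kv)⁻¹) *
        (k * t * c₁ * kv) := by
    intro x
    rw [← hα]
    simp only [MulAut.mul_apply, MulAut.conj_apply, ← map_inv MulAut.conj, mul_inv_rev, inv_inv, mul_assoc]
  have hz : ∀ z ∈ X (-r), (MulAut.conj (kv⁻¹ * (k * t * c₁)⁻¹ * y) * α *
      (MulAut.conj (kv⁻¹ * (k * t * c₁)⁻¹ * y))⁻¹) z = (MulAut.conj kv⁻¹ * β * MulAut.conj (k * t * kv)) z := by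
    intro z hz
    have h1 := hkvρ' z hz
    have h2 := hc₁ _ h1
    have h3 : k * t * c₁ * kv * z * (k * t * c₁ * kv)⁻¹ = k * t * kv * z * (k * t * kv)⁻¹ := by
      calc k * t * c₁ * kv * z * (k * t * c₁ * kv)⁻¹ = k * t * (c₁ * (kv * z * kv⁻¹)) * c₁⁻¹ * t⁻¹ * k⁻¹ := by group
        _ = k * t * kv * z * (k * t * kv)⁻¹ := by rw [h2]; group
    have h4 : k * t * kv * z * (k * t * kv)⁻¹ ∈ X (rep cs h v r) := by
      have := R.conj_mem hk₂ hr.neg hz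
      rwa [map_neg, rep_mul_apply, hwv, neg_neg] at this
    have h5 := hc₂ _ ((hβ _).2 h4)
    rw [hgen, h3, MulAut.mul_apply, MulAut.mul_apply, MulAut.mul_apply, MulAut.conj_apply, MulAut.conj_apply,
      MulAut.conj_apply, e]
    calc (k * t * c₁ * kv)⁻¹ * (k * (t * c₁ * c₂) * β (k * t * kv * z * (k * t * kv)⁻¹) *
          (k * (t * c₁ * c₂))⁻¹) * (k * t * c₁ * kv)
        = kv⁻¹ * (c₂ * β (k * t * kv * z * (k * t * kv)⁻¹)) * c₂⁻¹ * kv := by group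
      _ = _ := by rw [h5]; group
  refine ⟨kv⁻¹ * (k * t * c₁)⁻¹ * y, kv, k * t * kv, hkv, hk₂, fun x => ?_, hz⟩
  have hmap : ∀ z, (MulAut.conj kv⁻¹ * β * MulAut.conj (k * t * kv)) z ∈ X r ↔ z ∈ X (-r) := by
    intro z
    rw [MulAut.mul_apply, MulAut.mul_apply, MulAut.conj_apply, MulAut.conj_apply, inv_inv]
    have h1 : kv⁻¹ * β (k * t * kv * z * (k * t * kv)⁻¹) * kv ∈ X r ↔
        β (k * t * kv * z * (k * t * kv)⁻¹) ∈ X (rep cs h v r) := by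
      rw [← mem_cj, R.conj_rp hkv hr]
    have h2 : k * t * kv * z * (k * t * kv)⁻¹ ∈ X (rep cs h v r) ↔ z ∈ X (-r) := by
      have h3 : cj (k * t * kv) (X (-r)) = X (rep cs h v r) := by
        rw [R.conj_rp hk₂ hr.neg, map_neg, rep_mul_apply, hwv, neg_neg]
      rw [← h3, conj_mem_cj]
    rw [h1, hβ, h2]
  constructor
  · intro hx
    obtain ⟨z, e1⟩ : ∃ z, (MulAut.conj kv⁻¹ * β * MulAut.conj (k * t * kv)) z =
        (MulAut.conj (kv⁻¹ * (k * t * c₁)⁻¹ * y) * α * (MulAut.conj (kv⁻¹ * (k * t * c₁)⁻¹ * y))⁻¹) x :=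
      (MulAut.conj kv⁻¹ * β * MulAut.conj (k * t * kv)).surjective _
    have hz1 : z ∈ X (-r) := (hmap z).1 (by rwa [e1])
    rw [← hz z hz1] at e1
    have := (MulAut.conj (kv⁻¹ * (k * t * c₁)⁻¹ * y) * α * (MulAut.conj (kv⁻¹ * (k * t * c₁)⁻¹ * y))⁻¹).injective e1
    rwa [← this]
  · intro hx
    rw [hz x hx]
    exact (hmap x).2 hx

theorem fix_U {β : MulAut Y} {σ : Equiv.Perm I} (D : Diag T X β σ) (hA : ∀ i j, A (σ i) (σ j) = A i j) :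
    Fix β (RGD.Sup X (RGD.Pos cs h)) := by
  have key : ∀ {β : MulAut Y} {σ : Equiv.Perm I}, Diag T X β σ → (∀ i j, A (σ i) (σ j) = A i j) →
      ∀ y ∈ RGD.Sup X (RGD.Pos cs h), β y ∈ RGD.Sup X (RGD.Pos cs h) := by
    intro β σ D hA y hy
    have h1 : RGD.Sup X (RGD.Pos cs h) ≤ (RGD.Sup X (RGD.Pos cs h)).comap β.toMonoidHom := by
      refine RGD.Sup_le fun r hr z hz => ?_
      have h2 := (D.root_comp R hA hr.1 z).2 hz
      have h3 : IsRoot cs h (r ∘ σ.symm) := by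
        obtain ⟨w, i, e⟩ := hr.1
        rw [e, ← rep_hat (D.matrix R) hA, sr_comp]
        exact ⟨_, _, rfl⟩
      exact RGD.le_Sup (S := RGD.Pos cs h) ⟨h3, fun i => hr.2 _⟩ h2
    exact h1 hy
  intro y
  refine ⟨fun hy => ?_, key D hA y⟩
  have hA' : ∀ i j, A (σ⁻¹ i) (σ⁻¹ j) = A i j := by
    intro i j
    have h1 : ∀ k, σ (σ⁻¹ k) = k := fun k => σ.apply_symm_apply k
    rw [← hA, h1, h1]
  have := key D.inv hA' _ hy
  rwa [MulAut.inv_apply_self] at this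

theorem fix_UN' {β : MulAut Y} {σ : Equiv.Perm I} (D : Diag T X β σ) (hA : ∀ i j, A (σ i) (σ j) = A i j) :
    Fix β (UN cs h X) := by
  have key : ∀ {β : MulAut Y} {σ : Equiv.Perm I}, Diag T X β σ → (∀ i j, A (σ i) (σ j) = A i j) →
      ∀ y ∈ UN cs h X, β y ∈ UN cs h X := by
    intro β σ D hA y hy
    have h1 : UN cs h X ≤ (UN cs h X).comap β.toMonoidHom := by
      refine RGD.Sup_le fun r hr z hz => ?_
      have h2 := (D.root_comp R hA hr.1 z).2 hz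
      have h3 : IsRoot cs h (r ∘ σ.symm) := by
        obtain ⟨w, i, e⟩ := hr.1
        rw [e, ← rep_hat (D.matrix R) hA, sr_comp]
        exact ⟨_, _, rfl⟩
      exact X_le_UN h3 (fun i => hr.2 _) h2
    exact h1 hy
  intro y
  refine ⟨fun hy => ?_, key D hA y⟩
  have hA' : ∀ i j, A (σ⁻¹ i) (σ⁻¹ j) = A i j := by
    intro i j
    have h1 : ∀ k, σ (σ⁻¹ k) = k := fun k => σ.apply_symm_apply k
    rw [← hA, h1, h1]
  have := key D.inv hA' _ hy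
  rwa [MulAut.inv_apply_self] at this

/-- inner frame automorphisms -/
theorem mem_T_of_diag (hG : GG cs h T X = ⊤) {z : Y} (D : Diag T X (MulAut.conj z) 1) : z ∈ T := by
  have h1 : z ∈ RGD.B cs h T X := by
    rw [← normalizer_U' R hG, Subgroup.mem_normalizer_iff]
    intro y
    exact (fix_U R D (fun i j => rfl) y).symm
  have h2 : z ∈ BN cs h T X := by
    rw [← normalizer_UN R hG, Subgroup.mem_normalizer_iff]
    intro y
    exact (fix_UN' R D (fun i j => rfl) y).symm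
  rw [← B_inf_BN R]
  exact ⟨h1, h2⟩

variable {F : Type*} [Field F] {x : (I → ℤ) → F → Y} {χ : (I → ℤ) → Y → F} {hh : I → F → Y}

omit R in
theorem conj_pow (u : Y) (α : MulAut Y) (k : ℕ) : ∃ v : Y, (MulAut.conj u * α) ^ k = MulAut.conj v * α ^ k := by
  obtain ⟨v, -, e⟩ := conj_mul_pow (H := ⊤) (α := α) (fun _ => by simp) (Subgroup.mem_top u) k
  exact ⟨v, e⟩

/-- the order of the field automorphism -/
theorem tau_pow [Nonempty I] (hG : GG cs h T X = ⊤) (C : Coords cs h T n X x χ) {α β : MulAut Y} {u : Y}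
    (hβ : β = MulAut.conj u * α) {m : ℕ} (hm : α ^ m = 1) {τ : F ≃+* F} (S : Tau T X χ A β 1 τ) : τ ^ m = 1 := by
  obtain ⟨v, e⟩ := conj_pow u α m
  rw [← hβ, hm, mul_one] at e
  have S1 := S.pow m
  rw [one_pow, e] at S1
  have hv := mem_T_of_diag R hG S1.diag
  have S2 : Tau T X χ A (MulAut.conj v) 1 1 :=
    ⟨S1.diag, S1.cartan, fun i t ht => (C.coord _ (isRoot_sr cs h i)).chi_conj hv ht⟩
  exact (Tau.unique R C S1 S2).2

/-- **The semilinear map.** -/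
theorem exists_semi [Finite Y] [Fact p.Prime] [IsSimpleGroup Y] [Nonempty I] (hG : GG cs h T X = ⊤)
    (hBt : RGD.B cs h T X ≠ ⊤) (C : Coords cs h T n X x χ) (H : Coroots A T X χ hh)
    (hconn : ∀ J : Set I, J.Nonempty → J ≠ Set.univ → ∃ a ∈ J, ∃ b, b ∉ J ∧ M a b ≠ 2)
    {α : MulAut Y} (hα : α ≠ 1)
    (hσ : ∀ (g : Y) (σ : Equiv.Perm I), Diag T X (MulAut.conj g * α) σ → σ = 1)
    {r : I → ℤ} (hr : IsRoot cs h r) (hd : ∀ i, 0 ≤ cpr cs h (sr i) r)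
    (hc : ∀ x, IsRoot cs h x → 0 ≤ cpr cs h x r → ∀ u ∈ X x, ∀ z ∈ X r, u * z = z * u)
    (hall : ∀ ρ, IsRoot cs h ρ → ∃ v, rep cs h v r = ρ) {m : ℕ} (hm : α ^ m = 1) :
    ∃ (y : Y) (τ : F ≃+* F) (c : F), c ≠ 0 ∧ τ ^ m = 1 ∧
      (∀ z, (MulAut.conj y * α * (MulAut.conj y)⁻¹) z ∈ X r ↔ z ∈ X (-r)) ∧
      ∀ t, (MulAut.conj y * α * (MulAut.conj y)⁻¹) (x (-r) t) = x r (c * τ t) := by
  obtain ⟨y₀, k, b, w, β, ρ, hρ, hwρ, -, -, hk, hb, D, -, e⟩ := exists_opp R hG hBt hα hσ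
  obtain ⟨v, rfl⟩ := hall ρ hρ
  obtain ⟨y, k₁, k₂, hk₁, hk₂, h1, h2⟩ := exists_swap' R hr hd hc hwρ hk hb D e
  obtain ⟨τ, S⟩ := exists_tau R C H hconn D (fun i j => rfl)
  have hτ : τ ^ m = 1 := by
    refine tau_pow R hG C (α := α) (u := (k * b)⁻¹ * (y₀ * (α y₀)⁻¹)) ?_ hm S
    have h3 : β = (MulAut.conj (k * b))⁻¹ * (MulAut.conj y₀ * α * (MulAut.conj y₀)⁻¹) := by
      rw [e, inv_mul_cancel_left]
    rw [h3]
    ext z
    simp only [MulAut.mul_apply, MulAut.conj_apply, ← map_inv MulAut.conj, map_mul α, map_inv α, mul_inv_rev,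
      inv_inv, mul_assoc]
  obtain ⟨γ, hγ⟩ : ∃ γ, γ = MulAut.conj k₁⁻¹ * β * MulAut.conj k₂ := ⟨_, rfl⟩
  rw [← hγ] at h2
  have hγT : Fix γ T := by
    intro z
    rw [hγ, MulAut.mul_apply, MulAut.mul_apply, MulAut.conj_apply, MulAut.conj_apply]
    rw [← Subgroup.mem_normalizer_iff.1 hk₁.inv.mem_normalizer, D.tor,
      ← Subgroup.mem_normalizer_iff.1 hk₂.mem_normalizer]
  have hγX : ∀ z, γ z ∈ X r ↔ z ∈ X (-r) := by
    intro z
    constructor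
    · intro hz
      obtain ⟨z', e1⟩ := (MulAut.conj y * α * (MulAut.conj y)⁻¹).surjective (γ z)
      have h3 : z' ∈ X (-r) := (h1 z').1 (by rwa [e1])
      rw [h2 z' h3] at e1
      rwa [← γ.injective e1]
    · intro hz
      rw [← h2 z hz]
      exact (h1 z).2 hz
  obtain ⟨τ', c, hc0, h3, h4⟩ := (C.coord _ hr.neg).exists_semi (C.coord _ hr) hγT hγX
  have hττ : τ' = τ := by
    apply (C.coord _ hr.neg).ext
    intro t ht
    rw [← h4 t ht]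
    have h5 : k₂ * t * k₂⁻¹ ∈ T := (Subgroup.mem_normalizer_iff.1 hk₂.mem_normalizer t).1 ht
    have h6 : χ (rep cs h v r) (k₂ * t * k₂⁻¹) = χ (-r) t := by
      have := C.chi_rp R.nsys hk₂ hr.neg ht
      rwa [map_neg, rep_mul_apply, hwρ, neg_neg] at this
    have h7 : χ (rep cs h v r) (β (k₂ * t * k₂⁻¹)) = τ (χ (rep cs h v r) (k₂ * t * k₂⁻¹)) :=
      Tau.char_root R C S hρ h5
    have h8 : γ t ∈ T := (hγT t).2 ht
    have h9 : χ (rep cs h v r) (k₁ * γ t * k₁⁻¹) = χ r (γ t) := C.chi_rp R.nsys hk₁ hr h8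
    have h10 : k₁ * γ t * k₁⁻¹ = β (k₂ * t * k₂⁻¹) := by
      rw [hγ, MulAut.mul_apply, MulAut.mul_apply, MulAut.conj_apply, MulAut.conj_apply]
      group
    rw [← h9, h10, h7, h6]
  refine ⟨y, τ, c, hc0, hτ, h1, fun t => ?_⟩
  rw [h2 _ (((C.coord _ hr.neg).mem _).2 ⟨t, rfl⟩), h3, hττ]

end Swap

end Cfsg.Agent.H441.GS
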