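import Cfsg.Agent.H915.Gs.SL2W
import Cfsg.Agent.SignalizersComponents.SLQuasisimple
import Cfsg.Agent.SignalizersComponents.QsBasic

/-!
# START in `SL₂(q)`, `q ≥ 4` (S4327, exceptional groups), helper441

`a (ψ (u t)) = ψ (l (c * τ t))`.

* `tau_fix` : `a * a = 1`, `τ * τ = 1` imply `τ c = c`;
* `reach_four`, `reach_five` : four conjugates (`q ≠ 9`), five conjugates reach `ψ.range`.
-/

set_option autoImplicit false
set_option linter.unusedSectionVars false

namespace Cfsg.Agent.H441.GS

open Matrix Subgroup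
open Cfsg.Agent.LieClassical.SLTwoUnipotent
open Cfsg.Agent.H915.Gs (Gn Reach Reach₁ im)

section

variable {F : Type*} [Field F] [Fintype F] {Γ : Type*} [Group Γ] {a : MulAut Γ} {τ : F ≃+* F} {c : F}
  {ψ : SpecialLinearGroup (Fin 2) F →* Γ}

/-- the kernel is central -/
theorem ker_central (h4 : 4 ≤ Fintype.card F) (hne : ψ (u 1) ≠ 1) {g : SpecialLinearGroup (Fin 2) F} (hg : ψ g = 1) :
    ∃ z : F, z * z = 1 ∧ g.1 = Matrix.scalar (Fin 2) z := by
  have hq := SignalizersComponents.SLQuasisimple.isQuasisimple_two (F := F) (by rwa [Nat.card_eq_fintype_card])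
  have h1 : ψ.ker ≠ ⊤ := by
    intro h2
    apply hne
    have : u (1 : F) ∈ ψ.ker := by rw [h2]; trivial
    exact this
  have h2 := SignalizersComponents.QsBasic.normal_le_center_of_ne_top hq ψ.ker h1 (show g ∈ ψ.ker from hg)
  obtain ⟨z, hz, h3⟩ := Matrix.SpecialLinearGroup.mem_center_iff.1 h2
  refine ⟨z, ?_, h3.symm⟩
  rwa [Fintype.card_fin, pow_two] at hz

theorem tau_fix (h4 : 4 ≤ Fintype.card F) (hc : c ≠ 0) (hψ : ∀ t, a (ψ (u t)) = ψ (l (c * τ t))) (ha : a * a = 1)
    (hτ : τ * τ = 1) (hne : ψ (u 1) ≠ 1) : τ c = c := by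
  have haa : ∀ y, a (a y) = y := fun y => by rw [← MulAut.mul_apply, ha, MulAut.one_apply]
  have hττ : ∀ y, τ (τ y) = y := fun y => by
    have := congrArg (fun t : F ≃+* F => t y) hτ
    exact this
  have hτc : τ c ≠ 0 := fun h => hc (τ.injective (by rw [h, map_zero]))
  -- `a` on the lower root group
  have hψ' : ∀ s, a (ψ (l s)) = ψ (u (τ s / τ c)) := by
    intro s
    have h1 := hψ (τ s / τ c)
    rw [map_div₀, hττ, hττ, mul_div_cancel₀ s hc] at h1
    rw [← h1, haa]
  -- the relation of the reflection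
  have hrel : (u (1 : F) * l (-1) * u 1 : SpecialLinearGroup (Fin 2) F) = l (-1) * u 1 * l (-1) := by
    apply Subtype.ext
    simp only [Matrix.SpecialLinearGroup.coe_mul, coe_u, coe_l]
    ext i j
    fin_cases i <;> fin_cases j <;> simp [Matrix.mul_apply, Fin.sum_univ_two]
  have h1 := congrArg (fun g => a (ψ g)) hrel
  simp only [map_mul, hψ, hψ', map_one, mul_one, map_neg] at h1
  obtain ⟨e, he⟩ : ∃ e, e = -1 / τ c := ⟨_, rfl⟩
  rw [← he] at h1
  have h2 : ψ ((l c * u e * l c) * (u e * l c * u e)⁻¹) = 1 := by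
    rw [map_mul, map_inv, map_mul, map_mul, map_mul, map_mul, h1, mul_inv_cancel]
  obtain ⟨z, hz, h3⟩ := ker_central h4 hne h2
  have h4' : (l c * u e * l c : SpecialLinearGroup (Fin 2) F).1 =
      Matrix.scalar (Fin 2) z * (u e * l c * u e : SpecialLinearGroup (Fin 2) F).1 := by
    rw [← h3, ← Matrix.SpecialLinearGroup.coe_mul, inv_mul_cancel_right]
  simp only [Matrix.SpecialLinearGroup.coe_mul, coe_u, coe_l] at h4'
  have h00 := congrFun (congrFun h4' 0) 0
  have h01 := congrFun (congrFun h4' 0) 1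
  have h10 := congrFun (congrFun h4' 1) 0
  simp [Matrix.mul_apply, Fin.sum_univ_two, Matrix.diagonal_apply] at h00 h01 h10
  have hz1 : (z - 1) * (z + 1) = 0 := by linear_combination hz
  have hkey : e * c = -1 := by
    rcases mul_eq_zero.1 hz1 with h5 | h5
    · have h6 : z = 1 := sub_eq_zero.1 h5
      subst h6
      have h7 : c * (e * c + 1) = 0 := by linear_combination h10
      rcases mul_eq_zero.1 h7 with h8 | h8
      · exact absurd h8 hc
      · linear_combination h8
    · have h6 : z = -1 := eq_neg_of_add_eq_zero_left h5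
      subst h6
      have h7 : c * (e * c + 3) = 0 := by linear_combination h10
      rcases mul_eq_zero.1 h7 with h8 | h8
      · exact absurd h8 hc
      · have h9 : (4 : F) = 0 := by linear_combination 2 * h8 - h00
        have h10 : (2 : F) = 0 := by
          have : (2 : F) * 2 = 0 := by linear_combination h9
          rcases mul_eq_zero.1 this with h | h <;> exact h
        linear_combination h8 - h10
  rw [he] at hkey
  field_simp at hkey
  linear_combination hkey

/-- **five conjugates, always** -/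
theorem reach_sl2 (h4 : 4 ≤ Fintype.card F) (hc : c ≠ 0) (hψ : ∀ t, a (ψ (u t)) = ψ (l (c * τ t))) {m : ℕ}
    (hm : m.Prime) (hτ : τ ^ m = 1) (ha : a ^ m = 1) (hne : ψ (u 1) ≠ 1) :
    Reach a 5 ψ.range ∧ (Fintype.card F ≠ 9 ∨ m ≠ 2 ∨ τ = 1 → Reach a 4 ψ.range) := by
  rcases hm.eq_two_or_odd' with rfl | hodd
  · rw [pow_two] at hτ ha
    by_cases h1 : τ = 1
    · subst h1
      have h2 : Reach a 4 ψ.range := (Cfsg.Agent.H915.Gs.sl2w_three' h4 hc hψ (n := 1) odd_one (by simp)).reach
      exact ⟨h2.mono (by norm_num) (by norm_num), fun _ => h2⟩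
    · have h2 := tau_fix h4 hc hψ ha hτ hne
      refine ⟨(Cfsg.Agent.H915.Gs.sl2w_four' hc hψ h1 hτ h2).reach, fun h => ?_⟩
      rcases h with h | h | h
      · exact (Cfsg.Agent.H915.Gs.sl2w_two h hc hψ h1 hτ h2).reach
      · exact absurd rfl h
      · exact absurd h h1
  · have h2 : Reach a 4 ψ.range := (Cfsg.Agent.H915.Gs.sl2w_three' h4 hc hψ hodd hτ).reach
    exact ⟨h2.mono (by norm_num) (by norm_num), fun _ => h2⟩

end

end Cfsg.Agent.H441.GS
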