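import Cfsg.Agent.H441.GS.OppGen
import Cfsg.Agent.H441.GS.Chain
import Cfsg.Agent.H441.GS.Start
import Cfsg.Agent.KFacts.RgdChevCoord
import Cfsg.Agent.Nodes.SimplyLaced
import Cfsg.Agent.H122.S5.Sub

/-!
# The simply laced groups `E₆(q)`, `E₇(q)`, `E₈(q)` (S4327), helper441

* combinatorics of a connected simply laced root system: `orb_all`, `exists_dom'`, `hconnF`, `comm_long`;
* `finish` : an automorphism with a semilinear map `X (-r) → X r`, `q ≥ 4`;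
* `reach_of_jay` : the chain from two groups (`q = 2, 3`).
-/

set_option autoImplicit false
set_option linter.unusedSectionVars false

namespace Cfsg.Agent.H441.GS

open CoxeterSystem Cfsg.Agent.ChevalleyStructure.CoxeterGeom Cfsg.Agent.Tits.Roots Cfsg.Agent.Tits.Core
  Cfsg.Agent.Tits.Exchange Cfsg.Agent.Nodes.Reps Cfsg.Agent.Nodes.BNOf Cfsg.Agent.Nodes.StabComb
  Cfsg.Agent.Nodes.Bruhat Cfsg.Agent.Nodes.OppDec Cfsg.Agent.Nodes.LeviDec Cfsg.Agent.Nodes.NormalForm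
  Cfsg.Agent.Nodes.Coroot Cfsg.Agent.Nodes.PosPair Cfsg.Agent.KFacts.RgdSL
open Cfsg.Agent.KFacts.RgdOpp Cfsg.Agent.KFacts.RgdAut Cfsg.Agent.KFacts.RgdDiag Cfsg.Agent.KFacts.RgdRigid
  Cfsg.Agent.KFacts.RgdField Cfsg.Agent.KFacts.RgdTau Cfsg.Agent.KFacts.RgdChevCoord
open Cfsg.Agent.H915.Gs (Gn Reach Reach₁ im)
open scoped commutatorElement

/-! ### combinatorics -/

section Comb

variable {I W : Type*} [Fintype I] [DecidableEq I] [Group W] {M : CoxeterMatrix I} (cs : CoxeterSystem M W)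
  {A : I → I → ℤ} (h : IsCartan M A) [Finite W] (h4 : ∀ i j, M i j ≠ 4) (h6 : ∀ i j, M i j ≠ 6)
  (hconn : ∀ J : Set I, J.Nonempty → J ≠ Set.univ → ∃ a ∈ J, ∃ b, b ∉ J ∧ M a b ≠ 2)

include h4 h6

theorem sl_of_ne : SL cs h := fun _ _ hx hy => Cfsg.Agent.Nodes.SimplyLaced.cpr_symm cs h h4 h6 hx hy

omit [Fintype I] in
theorem cartan_neg_one (h : IsCartan M A) {a b : I} (hab : M a b ≠ 2) (hne : a ≠ b) : A a b = -1 ∧ A b a = -1 := by
  rcases h.rel a b hne with ⟨h1, -⟩ | ⟨-, h1, h2⟩ | ⟨h1, -⟩ | ⟨h1, -⟩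
  · exact absurd h1 hab
  · exact ⟨h1, h2⟩
  · exact absurd h1 (h4 a b)
  · exact absurd h1 (h6 a b)

omit h4 h6 [Finite W] in
theorem pairing_sr (i j : I) : pairing A i (sr j) = A i j := by
  unfold pairing sr
  simp [Pi.single_apply]

include hconn

theorem hconnF (S : Finset I) (hS : S.Nonempty) (hS' : S ≠ Finset.univ) :
    ∃ j ∈ S, ∃ i ∉ S, cpr cs h (sr j) (sr i) = -1 := by
  obtain ⟨a, ha, b, hb, hab⟩ := hconn (S : Set I) hS (fun h1 => hS' (by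
    ext x
    have : x ∈ (S : Set I) := by rw [h1]; trivial
    simpa using this))
  have ha' : a ∈ S := ha
  have hb' : b ∉ S := hb
  have hne : a ≠ b := by
    rintro rfl
    exact hb' ha'
  refine ⟨a, ha', b, hb', ?_⟩
  rw [cpr_sr, pairing_sr]
  exact (cartan_neg_one h4 h6 h hab hne).2

theorem orb_simple (i j : I) : ∃ w : W, rep cs h w (sr i) = sr j := by
  by_contra hcon
  obtain ⟨a, ⟨w, hw⟩, b, hb, hab⟩ := hconn {j | ∃ w : W, rep cs h w (sr i) = sr j} ⟨i, 1, by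
    rw [map_one]; rfl⟩ (fun h1 => hcon (by
      have : j ∈ {j | ∃ w : W, rep cs h w (sr i) = sr j} := by rw [h1]; trivial
      exact this))
  have hne : a ≠ b := by
    rintro rfl
    exact hb ⟨w, hw⟩
  obtain ⟨h1, h2⟩ := cartan_neg_one h4 h6 h hab hne
  apply hb
  refine ⟨cs.simple a * cs.simple b * w, ?_⟩
  have e1 : rep cs h (cs.simple b) (sr a) = sr a + sr b := by
    rw [rep_simple_eq, pairing_sr, h2]; module
  have e2 : rep cs h (cs.simple a) (sr b) = sr b + sr a := by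
    rw [rep_simple_eq, pairing_sr, h1]; module
  rw [rep_mul_apply, rep_mul_apply, hw, e1, map_add, rep_simple_sr, e2]
  abel

theorem orb_all {x y : I → ℤ} (hx : IsRoot cs h x) (hy : IsRoot cs h y) : ∃ w : W, rep cs h w x = y := by
  obtain ⟨w, i, rfl⟩ := hx
  obtain ⟨v, j, rfl⟩ := hy
  obtain ⟨u, hu⟩ := orb_simple cs h h4 h6 hconn i j
  exact ⟨v * u * w⁻¹, by rw [rep_mul_apply, rep_inv_apply, rep_mul_apply, hu]⟩

/-- the highest root -/
theorem exists_dom' [Nonempty I] : ∃ r : I → ℤ, IsRoot cs h r ∧ (∀ i, 0 ≤ cpr cs h (sr i) r) ∧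
    ∀ ρ, IsRoot cs h ρ → ∃ v, rep cs h v r = ρ := by
  obtain ⟨i₀⟩ := ‹Nonempty I›
  obtain ⟨w, hw⟩ := Finite.exists_max (fun w : W => ∑ k, (rep cs h w (sr i₀)) k)
  have hr : IsRoot cs h (rep cs h w (sr i₀)) := ⟨w, i₀, rfl⟩
  refine ⟨_, hr, fun i => ?_, fun ρ hρ => orb_all cs h h4 h6 hconn hr hρ⟩
  rw [sl_of_ne cs h h4 h6 _ _ (isRoot_sr cs h i) hr, cpr_sr]
  have h1 := hw (cs.simple i * w)
  rw [rep_mul_apply, rep_simple_eq] at h1
  simp only [Pi.sub_apply, Pi.smul_apply, smul_eq_mul, Finset.sum_sub_distrib] at h1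
  have h2 : ∑ k, pairing A i (rep cs h w (sr i₀)) * (sr i : I → ℤ) k = pairing A i (rep cs h w (sr i₀)) := by
    rw [← Finset.mul_sum]
    have : ∑ k, (sr i : I → ℤ) k = 1 := by
      unfold sr
      simp [Pi.single_apply]
    rw [this, mul_one]
  rw [h2] at h1
  omega

end Comb

section Grp

variable {I W Y : Type*} [Fintype I] [DecidableEq I] [Group W] [Group Y] {M : CoxeterMatrix I}
  {cs : CoxeterSystem M W} {A : I → I → ℤ} {h : IsCartan M A} {p : ℕ} {T : Subgroup Y} {n : I → Y}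
  {X : (I → ℤ) → Subgroup Y} {F : Type*} [Field F] {x : (I → ℤ) → F → Y} {χ : (I → ℤ) → Y → F}

theorem comm_long (R : RGD cs h p T n X) [Finite W] (hs : SL cs h) (C : Coords cs h T n X x χ) {r : I → ℤ}
    (hr : IsRoot cs h r) (y : I → ℤ) (hy : IsRoot cs h y) (h0 : 0 ≤ cpr cs h y r) :
    ∀ u ∈ X y, ∀ z ∈ X r, u * z = z * u := by
  intro u hu z hz
  by_cases hyr : y = r
  · subst hyr
    obtain ⟨s, rfl⟩ := ((C.coord _ hr).mem u).1 hu
    obtain ⟨t, rfl⟩ := ((C.coord _ hr).mem z).1 hz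
    rw [← (C.coord _ hr).add, ← (C.coord _ hr).add, add_comm]
  · refine comm_of_not_btwn R hy hr hyr ?_ (hs.not_btwn hy hr hyr h0) hu hz
    rintro rfl
    rw [cpr_neg_left _ hr, cpr_self cs h hr] at h0
    omega

theorem B_ne_top (R : RGD cs h p T n X) [Finite W] [Nonempty I] : RGD.B cs h T X ≠ ⊤ := by
  obtain ⟨i⟩ := ‹Nonempty I›
  intro h1
  have h2 := Cfsg.Agent.H934.RowRgd.PJ_ne_top R (J := (∅ : Set I)) (i := i) (by simp)
  refine h2 (top_le_iff.1 ?_)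
  rw [← h1]
  exact fun b hb => B_le_PJ hb

end Grp

/-! ### the groups `D.group K` -/

section Model

open Cfsg.Lie Cfsg.Agent.ChevalleyStructure Cfsg.Agent.ChevalleyStructure.Elts
  Cfsg.Agent.ChevalleyStructure.CoxeterGeomTypes Cfsg.Agent.Nodes.RGDChev
open Cfsg.Agent.H122.S5 (xe ph sub range_ph)
open Cfsg.Agent.LieClassical.SLTwoUnipotent (u l)

universe v

variable {D : ChevalleyDatum} {l' : ℕ} {M : CoxeterMatrix (Fin l')} (hp : IsType D l' M) {K : Type v} [Field K]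

theorem ph_u {s : ℕ} (hs : s < D.nroots) (t : K) : ph hp.inList K hs (u t) = xc hp (vec D l' s) t := by
  have h1 : u t = SL2Hom.up t := rfl
  rw [h1]
  apply Subtype.ext
  rw [coe_xc hp hs]
  exact Units.ext (SL2Hom.phi_upper _ _ t rfl)

theorem ph_l {s : ℕ} (hs : s < D.nroots) (t : K) : ph hp.inList K hs (l t) = xc hp (-vec D l' s) t := by
  have h1 : l t = SL2Hom.lo t := rfl
  have h2 : D.neg s < D.nroots := RootVec.neg_lt hp.checked hs
  rw [h1, ← vec_neg hp hs]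
  apply Subtype.ext
  rw [coe_xc hp h2]
  exact Units.ext (SL2Hom.phi_lower _ _ t rfl)

omit hp in
theorem reach_back {Y : Type*} [Group Y] {α : MulAut Y} {y : Y} {k : ℕ}
    (h : Reach (MulAut.conj y * α * (MulAut.conj y)⁻¹) k ⊤) : Reach α k ⊤ := by
  have h1 := Cfsg.Agent.H915.Gs.Reach.of_mul_conj h
  refine h1.sub fun z _ => ?_
  exact ⟨MulAut.conj y z, trivial, by
    rw [MulEquiv.coe_toMonoidHom, MulAut.inv_apply_self]⟩

variable {W : Type*} [Group W] [Finite W] (cs : CoxeterSystem M W) (h4 : ∀ i j, M i j ≠ 4) (h6 : ∀ i j, M i j ≠ 6)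
  (hconn : ∀ J : Set (Fin l'), J.Nonempty → J ≠ Set.univ → ∃ a ∈ J, ∃ b, b ∉ J ∧ M a b ≠ 2) [Fintype K]
  (p : ℕ) [Fact p.Prime] [CharP K p] [Nonempty (Fin l')]

include h4 h6 hconn p

/-- from a set of simple root groups -/
theorem chain_model {a : MulAut ↥(D.group K)} {r : Fin l' → ℤ} (hr : IsRoot cs hp.isCartan r)
    (h1 : ∀ z, a z ∈ XX D l' K r ↔ z ∈ XX D l' K (-r)) {S : Finset (Fin l')} (hS : S.Nonempty) {k m : ℕ}
    (hm : S.card + m = l') {J : Subgroup ↥(D.group K)} (hJ : Reach a k J)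
    (hSJ : ∀ i ∈ S, XX D l' K (sr i) ≤ J ∧ XX D l' K (-sr i) ≤ J) : Reach a (k + m) ⊤ := by
  have R := rgd (K := K) hp cs p
  have hG1 := G1_eq_top (K := K) hp cs
  have hs := sl_of_ne cs hp.isCartan h4 h6
  exact chain_top R (longR_of_sl R hs hr) hG1 h1 (fun i => orb_all cs hp.isCartan h4 h6 hconn hr (isRoot_sr cs _ i))
    (hconnF cs hp.isCartan h4 h6 hconn) hS (by rwa [Fintype.card_fin]) hJ hSJ

/-- **`q ≥ 4`**: the start -/
theorem start_pair (hq : 4 ≤ Fintype.card K) {α : MulAut ↥(D.group K)} {m : ℕ} (hm : m.Prime)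
    (hα : α ^ m = 1) {r : Fin l' → ℤ} (hr : IsRoot cs hp.isCartan r) {y : ↥(D.group K)} {τ : K ≃+* K} {c : K}
    (hc : c ≠ 0) (hτ : τ ^ m = 1)
    (h2 : ∀ t, (MulAut.conj y * α * (MulAut.conj y)⁻¹) (xc hp (-r) t) = xc hp r (c * τ t)) :
    Reach (MulAut.conj y * α * (MulAut.conj y)⁻¹) 5 (XX D l' K r ⊔ XX D l' K (-r)) ∧
      (Fintype.card K ≠ 9 ∨ m ≠ 2 ∨ τ = 1 →
        Reach (MulAut.conj y * α * (MulAut.conj y)⁻¹) 4 (XX D l' K r ⊔ XX D l' K (-r))) := by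
  have C := coords (K := K) hp cs p
  obtain ⟨a, ha⟩ : ∃ a, a = MulAut.conj y * α * (MulAut.conj y)⁻¹ := ⟨_, rfl⟩
  rw [← ha] at h2 ⊢
  have ham : a ^ m = 1 := by rw [ha, _root_.conj_pow, hα, mul_one, mul_inv_cancel]
  obtain ⟨s, hs, hsr⟩ := (isRoot_iff hp cs _).1 hr.neg
  obtain ⟨ψ, hψd⟩ : ∃ ψ, ψ = ph hp.inList K hs := ⟨_, rfl⟩
  have hu : ∀ t, ψ (u t) = xc hp (-r) t := fun t => by rw [hψd, ph_u, hsr]
  have hl : ∀ t, ψ (l t) = xc hp r t := fun t => by rw [hψd, ph_l, hsr, neg_neg]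
  have hψ : ∀ t, a (ψ (u t)) = ψ (l (c * τ t)) := fun t => by rw [hu, h2, hl]
  have hne : ψ (u 1) ≠ 1 := by
    rw [hu]
    exact (C.coord _ hr.neg).ne_one one_ne_zero
  obtain ⟨h5, h4'⟩ := reach_sl2 hq hc hψ hm hτ ham hne
  have hX : XX D l' K r ⊔ XX D l' K (-r) ≤ ψ.range := by
    refine sup_le ?_ ?_
    · intro z hz
      obtain ⟨t, rfl⟩ := ((C.coord _ hr).mem z).1 hz
      exact ⟨l t, hl t⟩
    · intro z hz
      obtain ⟨t, rfl⟩ := ((C.coord _ hr.neg).mem z).1 hz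
      exact ⟨u t, hu t⟩
  exact ⟨h5.sub hX, fun h => (h4' h).sub hX⟩

/-- the chain from one pair -/
theorem chain_one {a : MulAut ↥(D.group K)} {r : Fin l' → ℤ} (hr : IsRoot cs hp.isCartan r)
    (h1 : ∀ z, a z ∈ XX D l' K r ↔ z ∈ XX D l' K (-r)) {j k : ℕ} (hk : 1 + k = l')
    (hj : Reach a j (XX D l' K r ⊔ XX D l' K (-r))) : Reach a (j + k) ⊤ := by
  have R := rgd (K := K) hp cs p
  obtain ⟨i⟩ := ‹Nonempty (Fin l')›
  have : Nonempty (Fin l') := ⟨i⟩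
  obtain ⟨w, hw⟩ := orb_all cs hp.isCartan h4 h6 hconn hr (isRoot_sr cs hp.isCartan i)
  obtain ⟨g, hg⟩ := exists_rp cs R.nsys w
  have h7 := hj.conj g
  refine chain_model hp cs h4 h6 hconn p hr h1 (S := {i}) (Finset.singleton_nonempty i) (by simpa using hk) h7 ?_
  intro i' hi'
  rw [Finset.mem_singleton] at hi'
  subst hi'
  constructor
  · rw [← hw]
    intro z hz
    have h9 : z ∈ cj g (XX D l' K r) := by rwa [R.conj_rp hg hr]
    exact Subgroup.map_mono le_sup_left h9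
  · rw [← hw, ← map_neg]
    intro z hz
    have h9 : z ∈ cj g (XX D l' K (-r)) := by rwa [R.conj_rp hg hr.neg]
    exact Subgroup.map_mono le_sup_right h9

/-- **`q ≥ 4`** -/
theorem finish (hq : 4 ≤ Fintype.card K) {k : ℕ} (hk : 1 + k = l') {α : MulAut ↥(D.group K)} {m : ℕ} (hm : m.Prime)
    (hα : α ^ m = 1) {r : Fin l' → ℤ} (hr : IsRoot cs hp.isCartan r) {y : ↥(D.group K)} {τ : K ≃+* K} {c : K}
    (hc : c ≠ 0) (hτ : τ ^ m = 1)
    (h1 : ∀ z, (MulAut.conj y * α * (MulAut.conj y)⁻¹) z ∈ XX D l' K r ↔ z ∈ XX D l' K (-r))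
    (h2 : ∀ t, (MulAut.conj y * α * (MulAut.conj y)⁻¹) (xc hp (-r) t) = xc hp r (c * τ t)) :
    Reach α (5 + k) ⊤ ∧ (Fintype.card K ≠ 9 ∨ m ≠ 2 ∨ τ = 1 → Reach α (4 + k) ⊤) := by
  obtain ⟨h5, h4'⟩ := start_pair hp cs h4 h6 hconn p hq hm hα hr hc hτ h2
  exact ⟨reach_back (chain_one hp cs h4 h6 hconn p hr h1 hk h5),
    fun h => reach_back (chain_one hp cs h4 h6 hconn p hr h1 hk (h4' h))⟩

end Model

end Cfsg.Agent.H441.GS
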