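import Cfsg.Agent.H441.GS.Rows
import Cfsg.Agent.H127.Gx.EEight

/-!
# `E₈(9)` (S4327): the input `Nine`, helper441 (from helper127's double step)
-/

set_option autoImplicit false
set_option linter.unusedSectionVars false

namespace Cfsg.Agent.H441.GS

open CoxeterSystem Cfsg.Agent.ChevalleyStructure.CoxeterGeom Cfsg.Agent.Tits.Roots Cfsg.Agent.Tits.Core
  Cfsg.Agent.Nodes.Reps Cfsg.Agent.Nodes.BNOf Cfsg.Agent.Nodes.Bruhat Cfsg.Agent.Nodes.Coroot
open Cfsg.Agent.KFacts.RgdDiag Cfsg.Agent.KFacts.RgdRigid Cfsg.Agent.KFacts.RgdChevCoord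
open Cfsg.Agent.H915.Gs (Gn Reach Reach₁ im)
open Cfsg.Lie Cfsg.Agent.ChevalleyStructure Cfsg.Agent.ChevalleyStructure.Elts
  Cfsg.Agent.ChevalleyStructure.CoxeterGeomTypes Cfsg.Agent.Nodes.RGDChev Cfsg.Agent.Nodes.KindE

/-- the nodes of `D₄` -/
def dn : Fin 4 → Fin 8 := ![1, 2, 3, 4]

set_option backward.isDefEq.respectTransparency false in
theorem dn_conn : ∀ S : Finset (Fin 4), S.Nonempty → S ≠ Finset.univ →
    ∃ j ∈ S, ∃ i ∉ S, CoxeterMatrix.E₈ (dn i) (dn j) = 3 := by decide +kernel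

theorem nine (K : Type) [Field K] [Fintype K] : Nine K := by
  intro W _ _ cs a r hr h1 h5
  obtain ⟨p, hpK⟩ := CharP.exists K
  have hpp : p.Prime := CharP.char_is_prime K p
  have : Fact p.Prime := ⟨hpp⟩
  have R := rgd (K := K) isType8 cs p
  have hG1 := G1_eq_top (K := K) isType8 cs
  have hs := sl_of_ne cs isType8.isCartan ne_eight.1 ne_eight.2
  have L := longR_of_sl R hs hr
  have horb : ∀ x, IsRoot cs isType8.isCartan x → ∃ w, rep cs isType8.isCartan w r = x := fun x hx =>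
    orb_all cs isType8.isCartan ne_eight.1 ne_eight.2 conn_eight hr hx
  obtain ⟨w, hw⟩ := horb _ (isRoot_sr cs isType8.isCartan (dn 0))
  obtain ⟨g, hg⟩ := exists_rp cs R.nsys w
  have h7 := h5.conj g
  obtain ⟨J', h8, -, h9⟩ := chain_fam R L h1 (ι := Fin 4) (β := fun i => sr (dn i))
    (fun i => horb _ (isRoot_sr cs _ _)) (fun S hS hS' => by
      obtain ⟨j, hj, i, hi, h2⟩ := dn_conn S hS hS'
      refine ⟨j, hj, i, hi, ?_⟩
      have hne : dn i ≠ dn j := by
        intro h3
        rw [h3, CoxeterMatrix.diagonal] at h2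
        exact absurd h2 (by norm_num)
      rw [cpr_sr, pairing_sr, Cfsg.Agent.Nodes.SimplyLaced.cart_eq ne_eight.1 ne_eight.2 isType8.isCartan,
        if_neg hne, if_pos h2]) 3 {0} _ 5 (Finset.singleton_nonempty _) (by simp) h7 (by
      intro i' hi'
      rw [Finset.mem_singleton] at hi'
      subst hi'
      constructor
      · rw [← hw]
        intro z hz
        have h9 : z ∈ cj g (XX chevE8 8 K r) := by rwa [R.conj_rp hg hr]
        exact Subgroup.map_mono le_sup_left h9
      · rw [← hw, ← map_neg]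
        intro z hz
        have h9 : z ∈ cj g (XX chevE8 8 K (-r)) := by rwa [R.conj_rp hg hr.neg]
        exact Subgroup.map_mono le_sup_right h9)
  refine Cfsg.Agent.H127.Gx.e8_top R hG1 hr h1 (fun i => horb _ (isRoot_sr cs _ _)) (k := 8) h8 ?_
  intro i hi
  have h10 : ∃ j, dn j = i := by
    revert hi
    revert i
    decide
  obtain ⟨j, rfl⟩ := h10
  exact h9 j

end Cfsg.Agent.H441.GS
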