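import Cfsg.Agent.H441.GS.Rows

/-!
# The row `E₆(q)` of S4327, helper441

Inputs: `Small` (`q = 2, 3`), `Dich` (combinatorics of the graph type), `Bad` (the graph type with `J = D₄`).
-/

set_option autoImplicit false
set_option linter.unusedSectionVars false

namespace Cfsg.Agent.H441.GS

open CoxeterSystem Cfsg.Agent.ChevalleyStructure.CoxeterGeom Cfsg.Agent.Tits.Roots Cfsg.Agent.Tits.Core
  Cfsg.Agent.Nodes.Reps Cfsg.Agent.Nodes.BNOf Cfsg.Agent.Nodes.Bruhat Cfsg.Agent.Nodes.Coroot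
open Cfsg.Agent.KFacts.RgdDiag Cfsg.Agent.KFacts.RgdRigid Cfsg.Agent.KFacts.RgdChevCoord
  Cfsg.Agent.KFacts.RgdAut Cfsg.Agent.KFacts.RgdTau Cfsg.Agent.KFacts.RgdOpp
open Cfsg.Agent.H915.Gs (Gn Reach Reach₁ im)
open Cfsg.Lie Cfsg.Agent.ChevalleyStructure Cfsg.Agent.ChevalleyStructure.Elts
  Cfsg.Agent.ChevalleyStructure.CoxeterGeomTypes Cfsg.Agent.Nodes.RGDChev Cfsg.Agent.Nodes.KindE

/-- the flip of the diagram `E₆` -/
def flip6 : Fin 6 → Fin 6 := ![5, 1, 4, 3, 2, 0]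

set_option backward.isDefEq.respectTransparency false in
theorem walks_six : ∀ i j : Fin 6, (∀ m : Fin 5, walks (fun i j => CoxeterMatrix.E₆ i j) m i =
    walks (fun i j => CoxeterMatrix.E₆ i j) m j) → i = j ∨ i = flip6 j := by decide +kernel

theorem sq_six {σ : Equiv.Perm (Fin 6)} (hσ : ∀ i j, CoxeterMatrix.E₆ (σ i) (σ j) = CoxeterMatrix.E₆ i j) :
    σ ^ 2 = 1 := by
  have h1 : ∀ i, σ i = i ∨ σ i = flip6 i := fun i =>
    walks_six _ _ fun m => walks_comp (M := fun i j => CoxeterMatrix.E₆ i j) hσ m i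
  have h2 : ∀ i, flip6 (flip6 i) = i := by decide
  rw [pow_two]
  apply Equiv.ext
  intro i
  rw [Equiv.Perm.mul_apply, Equiv.Perm.one_apply]
  rcases h1 i with h3 | h3
  · rw [h3, h3]
  · rcases h1 (σ i) with h4 | h4
    · have h5 := σ.injective h4
      rw [h5, h5]
    · rw [h4, h3, h2]

/-- the combinatorial input (graph type) -/
def Dich : Prop :=
  ∀ (W : Type) [Group W] [Finite W] (cs : CoxeterSystem CoxeterMatrix.E₆ W) (w : W) (σ : Equiv.Perm (Fin 6)),
    (∀ i j, cartanOf chevE6 6 (σ i) (σ j) = cartanOf chevE6 6 i j) → σ ≠ 1 →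
    (∀ i, rep cs isType6.isCartan w (sr (σ i)) = sr i ∨
      (rep cs isType6.isCartan w (sr (σ i)) ≤ 0 ∧ rep cs isType6.isCartan w⁻¹ (sr i) ≤ 0)) →
    (∃ δ, IsRoot cs isType6.isCartan δ ∧ rep cs isType6.isCartan w δ = -(δ ∘ σ)) ∨
      ∀ i, rep cs isType6.isCartan w (sr (σ i)) = sr i ↔ i ∈ ({1, 2, 3, 4} : Set (Fin 6))

/-- the input for the graph type with `J = D₄` -/
def Bad (K : Type) [Field K] [Fintype K] : Prop :=
  ∀ (p : ℕ) [Fact p.Prime] [CharP K p] (W : Type) [Group W] [Finite W] (cs : CoxeterSystem CoxeterMatrix.E₆ W)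
    [IsSimpleGroup ↥(chevE6.group K)]
    (α β : MulAut ↥(chevE6.group K)) (y k b : ↥(chevE6.group K)) (w : W) (σ : Equiv.Perm (Fin 6)),
    α ^ 2 = 1 → MulAut.conj y * α * (MulAut.conj y)⁻¹ = MulAut.conj (k * b) * β →
    Rp cs (rgd (K := K) isType6 cs p).nsys w k →
    b ∈ RGD.B cs isType6.isCartan (TT chevE6 K) (XX chevE6 6 K) → Diag (TT chevE6 K) (XX chevE6 6 K) β σ →
    Fix β (RGD.B cs isType6.isCartan (TT chevE6 K) (XX chevE6 6 K)) →
    (∀ (z : ↥(chevE6.group K)) (w' : W), Cell (rgd (K := K) isType6 cs p).nsys cs isType6.isCartan (XX chevE6 6 K) w'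
      (z * (k * b) * (β z)⁻¹) → cs.length w' ≤ cs.length w) →
    (∀ i, rep cs isType6.isCartan w (sr (σ i)) = sr i ∨
      (rep cs isType6.isCartan w (sr (σ i)) ≤ 0 ∧ rep cs isType6.isCartan w⁻¹ (sr i) ≤ 0)) →
    σ ≠ 1 → (∀ i, rep cs isType6.isCartan w (sr (σ i)) = sr i ↔ i ∈ ({1, 2, 3, 4} : Set (Fin 6))) → Reach α 11 ⊤

theorem reach_six {K : Type} [Field K] [Fintype K] [IsSimpleGroup ↥(chevE6.group K)]
    (hS : Fintype.card K = 2 ∨ Fintype.card K = 3 → Small isType6 K) (hD : Dich) (hB : Bad K)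
    {α : MulAut ↥(chevE6.group K)} (hα : (orderOf α).Prime) : Reach α 11 ⊤ := by
  obtain ⟨p, hpK⟩ := CharP.exists K
  have hpp : p.Prime := CharP.char_is_prime K p
  have : Fact p.Prime := ⟨hpp⟩
  have hW : Finite CoxeterMatrix.E₆.Group := finite_W isType6 CoxeterMatrix.E₆.toCoxeterSystem
  have hα1 : α ≠ 1 := by
    rintro rfl
    rw [orderOf_one] at hα
    exact Nat.not_prime_one hα
  obtain ⟨cs, -⟩ : ∃ cs : CoxeterSystem CoxeterMatrix.E₆ CoxeterMatrix.E₆.Group, True :=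
    ⟨CoxeterMatrix.E₆.toCoxeterSystem, trivial⟩
  have R := rgd (K := K) isType6 cs p
  have C := coords (K := K) isType6 cs p
  have H := coroots (K := K) isType6 cs p
  have hG1 := G1_eq_top (K := K) isType6 cs
  have hG : GG cs isType6.isCartan (TT chevE6 K) (XX chevE6 6 K) = ⊤ := GG_eq_top hG1
  have hs := sl_of_ne cs isType6.isCartan ne_six.1 ne_six.2
  have : Finite ↥(chevE6.group K) := Cfsg.Agent.H122.S5.finite_group (D := chevE6) K
  obtain ⟨r, hr, hd, hall⟩ := exists_dom' cs isType6.isCartan ne_six.1 ne_six.2 conn_six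
  obtain ⟨y₀, k, b, w, β, σ, e, hk, hb, D, hfix, hw1, hmax, hst⟩ := exists_form R hG (B_ne_top R) α
  have hM := D.matrix R
  have hA : ∀ i j, cartanOf chevE6 6 (σ i) (σ j) = cartanOf chevE6 6 i j := by
    intro i j
    rw [Cfsg.Agent.Nodes.SimplyLaced.cart_eq ne_six.1 ne_six.2 isType6.isCartan,
      Cfsg.Agent.Nodes.SimplyLaced.cart_eq ne_six.1 ne_six.2 isType6.isCartan, hM]
    simp only [σ.injective.eq_iff]
  -- the good case
  have hgood : (∃ δ, IsRoot cs isType6.isCartan δ ∧ rep cs isType6.isCartan w δ = -(δ ∘ σ)) → Reach α 11 ⊤ := by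
    rintro ⟨δ, hδ, hwδ⟩
    obtain ⟨v, rfl⟩ := hall δ hδ
    obtain ⟨w₁, hw₁⟩ := hall _ hδ.neg
    obtain ⟨y, τ, c, hc, hτ, h1, h2⟩ := semi_gen R hG C H conn_six hr hd
      (fun x hx h0 => comm_long R hs C hr x hx h0) hA hwδ hw₁ hk hb D e (pow_orderOf_eq_one α)
    rcases card_cases K with hq | hq
    · exact (finish isType6 _ ne_six.1 ne_six.2 conn_six p hq (k := 5) rfl hα (pow_orderOf_eq_one α) hr hc hτ
        h1 h2).1.mono (by norm_num) (by norm_num)
    · exact (finish_small isType6 ne_six.1 ne_six.2 conn_six p (hS hq) _ hq (k := 4) rfl hr hc h1 h2).mono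
        (by norm_num) (by norm_num)
  by_cases hσ : σ = 1
  · subst hσ
    have HH : ∀ i, rep cs isType6.isCartan w (sr i) = sr i ∨ rep cs isType6.isCartan w (sr i) ≤ 0 := fun i => by
      rcases hst i with h1 | h1
      · exact Or.inl h1
      · exact Or.inr h1.1
    obtain ⟨ρ, hρ, hwρ⟩ := exists_neg cs isType6.isCartan _ w rfl (sq_eq_one HH) (hw1 hα1)
    exact hgood ⟨ρ, hρ, hwρ⟩
  · rcases hD _ cs w σ hA hσ hst with h1 | h1
    · exact hgood h1
    · have h2 : orderOf α = 2 := by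
        obtain ⟨τ, S⟩ := exists_tau R C H conn_six D hA
        have h3 : β = MulAut.conj ((k * b)⁻¹ * (y₀ * (α y₀)⁻¹)) * α := by
          have h3 : β = (MulAut.conj (k * b))⁻¹ * (MulAut.conj y₀ * α * (MulAut.conj y₀)⁻¹) := by
            rw [e, inv_mul_cancel_left]
          rw [h3]
          ext z
          simp only [MulAut.mul_apply, MulAut.conj_apply, ← map_inv MulAut.conj, map_mul α, map_inv α, mul_inv_rev,
            inv_inv, mul_assoc]
        have h4 := (tau_pow_gen R hG C h3 (pow_orderOf_eq_one α) S).1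
        have h5 : orderOf σ = 2 := orderOf_eq_prime (sq_six hM) hσ
        have h6 := orderOf_dvd_of_pow_eq_one h4
        rw [h5] at h6
        exact ((Nat.prime_dvd_prime_iff_eq Nat.prime_two hα).1 h6).symm
      exact hB p _ cs α β y₀ k b w σ (by rw [← h2]; exact pow_orderOf_eq_one α) e hk hb D hfix hmax hst hσ h1

/-- **the row `E₆(q)`** -/
theorem row_six (hS : ∀ (K : Type) [Field K] [Fintype K], Fintype.card K = 2 ∨ Fintype.card K = 3 →
    Small isType6 K) (hD : Dich) (hB : ∀ (K : Type) [Field K] [Fintype K], Bad K)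
    {L : Type*} [Group L] [IsSimpleGroup L] (hL : Lie.IsoChevE6 L) : H147.Gen.Gen11 L := by
  obtain ⟨K, _, _, ⟨e⟩⟩ := hL
  have : IsSimpleGroup ↥(chevE6.group K) := e.symm.isSimpleGroup
  exact H147.Gen.Gen11.congr e.symm (gen_of_reach fun x hx => reach_six (hS K) hD (hB K) hx)

end Cfsg.Agent.H441.GS
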